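import Cfsg.Agent.KZ.Ch3X.Xs
import Cfsg.Agent.KZ.DatX.Three
import Cfsg.Agent.ODD.C2.HN2Chev
import Cfsg.Agent.H493.NCRow.OutE6
import Cfsg.Agent.H493.NCRow.OutTwE6
import Cfsg.Agent.H523.FpfCycFam
import Cfsg.Agent.S1035
import Cfsg.Agent.S2121
import Cfsg.Agent.S2122
import Cfsg.Agent.S2123
import Cfsg.Agent.S2124
import Cfsg.Agent.S2125
import Cfsg.Agent.S2129
import Cfsg.Agent.S2130

/-!
# KZ, defining characteristic `3`: the generic exceptional families (helper3)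

`std_G2` (`q ≥ 9`), `std_F4`, `std_E6`, `std_E7`, `std_E8`, `std_2E6`, `std_3D4`, `row_tw`.
-/

set_option autoImplicit false
set_option linter.unusedSectionVars false
set_option maxHeartbeats 400000

namespace Cfsg.Agent.KZ.Ch3X

open Cfsg Cfsg.Lie Cfsg.Agent.DL Cfsg.Agent.DL.PP Cfsg.Agent.DL.Ex Cfsg.Agent.KZ.DatX Cfsg.Agent.Nodes.RGDChev
  Cfsg.Agent.ChevalleyStructure.Elts Matrix

/-! ### outer automorphisms -/

theorem cyc_of_cycOut {S : Type} [Group S] (h : H523.CycOut S) : IsCyclic (Out S) := by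
  obtain ⟨β, h⟩ := h
  refine ⟨⟨(β : Out S), fun x => ?_⟩⟩
  obtain ⟨α, rfl⟩ := QuotientGroup.mk_surjective x
  obtain ⟨g, k, rfl⟩ := h α
  refine Subgroup.mem_zpowers_iff.2 ⟨k, ?_⟩
  rw [QuotientGroup.mk_mul, (QuotientGroup.eq_one_iff (N := Inn S) (MulAut.conj g)).2 ⟨g, rfl⟩, one_mul, QuotientGroup.mk_zpow]

theorem oc3_chev {D : ChevalleyDatum} (hD : InList D) (hD' : D ∈ [chevG2, chevB2, chevF4, chevE6, chevE7, chevE8])
    (F : Type) [Field F] [Fintype F] [Finite ↥(D.group F)] {d : ℕ} (hd : d ≤ 2)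
    (h : d * Nat.card (D.diagonalSubgroup F) = (Fintype.card F - 1) ^ D.rank) : OC3 ↥(D.group F) := by
  obtain ⟨h1, -, h2, h3, h4⟩ := H442.OutCyc.structure_out hD F
  have h5 := H442.OutCyc.card_DB_le hD F (d := d) (by rwa [Nat.card_eq_fintype_card (α := F)])
  have h6 : 0 < Nat.card (H442.OutCyc.DB hD F) := Nat.card_pos
  refine oc3_of _ _ (fun h7 => absurd (Nat.le_of_dvd h6 h7) (by omega)) h2 ?_
  rcases h4 with h4 | h4 | ⟨-, h4⟩
  · rw [h4]; decide
  · rw [h4]; decide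
  · exact absurd ((H493.NCRow.commutator_le_DB hD hD' F).trans le_sup_left) h4

/-! ### arithmetic -/

theorem gcd_sub {e : ℕ} (he : 0 < e) : Nat.gcd 3 (3 ^ e - 1) = 1 :=
  Nat.Coprime.eq_one_of_dvd (cop_sub three_pos he 3) (Nat.gcd_dvd_left _ _)

theorem gcd_add {e : ℕ} (he : 0 < e) : Nat.gcd 3 (3 ^ e + 1) = 1 :=
  Nat.Coprime.eq_one_of_dvd (cop_add he 3) (Nat.gcd_dvd_left _ _)

theorem gcd_two_le (n : ℕ) : Nat.gcd 2 n ≤ 2 := Nat.gcd_le_left _ two_pos

theorem det_abs {l : ℕ} (e : ℕ) {P Q : Matrix (Fin l) (Fin l) ℤ} (h : P * Q = 1) :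
    ((3 : ℤ) ^ e • P).det.natAbs = 3 ^ (e * l) := by
  have h1 := congrArg (fun A => A.det.natAbs) h
  simp only [det_mul, Int.natAbs_mul, det_one, Int.natAbs_one] at h1
  rw [det_smul, Int.natAbs_mul, Nat.eq_one_of_mul_eq_one_right h1, Fintype.card_fin, mul_one, ← pow_mul, Int.natAbs_pow]
  rfl

theorem num {e l : ℕ} (he : 0 < e) (hl : 4 ≤ l) : 81 ≤ 3 ^ (e * l) ∧ 48 * e + 2 < 3 ^ (e * l) := by
  have h1 : 81 ^ e ≤ 3 ^ (e * l) := by
    rw [show 81 = 3 ^ 4 from rfl, ← pow_mul, mul_comm]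
    exact Nat.pow_le_pow_right three_pos (Nat.mul_le_mul_left _ hl)
  have h2 : ∀ j, 80 * j + 1 ≤ 81 ^ j := fun j => by
    induction j with
    | zero => simp
    | succ j ih => rw [pow_succ]; omega
  have := h2 e
  omega

theorem num2 {e : ℕ} (he : 2 ≤ e) : 81 ≤ 3 ^ (e * 2) ∧ 16 * e + 1 < 3 ^ (e * 2) := by
  induction e, he using Nat.le_induction with
  | base => decide
  | succ e _ ih =>
    rw [add_mul, pow_add]
    omega

theorem admL_pow {l : ℕ} {L : List (Matrix (Fin l) (Fin l) ℤ)} {A : Matrix (Fin l) (Fin l) ℤ} (h : AdmL 3 L A) :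
    AdmL 3 L (A ^ 1) := by rwa [pow_one]

theorem admF_admL {l : ℕ} {L : List (Matrix (Fin l) (Fin l) ℤ)} (h1 : 1 ∈ L) {A : Matrix (Fin l) (Fin l) ℤ}
    (h : AdmF 3 A) : AdmL 3 L (A ^ 1) := h.elim fun j e => ⟨j, 1, h1, by rwa [pow_one]⟩

/-! ### the tables -/

/-- labels of orders `1, 2, 4, 8` -/
def T4 {l : ℕ} (i : Fin l) (y : Fin l → ℤ) : Tb l 4 :=
  ⟨![1, 2, 4, 8], ![Pi.single i 1, Pi.single i 1, Pi.single i 1, y], ![[], [], [i], [i]]⟩

/-- labels of orders `1, 2, 4, 8, 13, 26, 40` -/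
def T7 : Tb 7 7 :=
  ⟨![1, 2, 4, 8, 13, 26, 40], ![![1, 0, 0, 0, 0, 0, 0], ![1, 0, 0, 0, 0, 0, 0], ![1, 0, 0, 0, 0, 0, 0], ![1, 0, 4, 0, 0, 0, 0],
    ![1, 0, 4, 13, 0, 0, 0], ![1, 0, 4, 13, 0, 0, 0], ![1, 0, 4, 13, 0, 0, 0]], ![[], [], [0], [0], [2, 0], [2, 0], [3, 2, 0]]⟩

theorem okG2 : (T4 0 ![1, 4]).Ok chevG2 [1] := by decide +kernel

theorem okF4 : (T4 0 ![1, 4, 0, 0]).Ok chevF4 [1] := by decide +kernel

theorem okD4 : (T4 1 ![4, 1, 4, 4]).Ok chevD4 [1, P4] := by decide +kernel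

theorem okE6 : (T4 1 ![0, 1, 0, 4, 0, 0]).Ok chevE6 [1, P6] := by decide +kernel

theorem okE7 : T7.Ok chevE7 [1] := by decide +kernel

theorem okE8 : (T4 0 ![1, 0, 4, 0, 0, 0, 0, 0]).Ok chevE8 [1] := by decide +kernel

theorem slD4 : ∀ i j, coxeterD4 i j ≠ 4 ∧ coxeterD4 i j ≠ 6 := fun i j => by
  fin_cases i <;> fin_cases j <;> decide

theorem slE6 : ∀ i j, CoxeterMatrix.E₆ i j ≠ 4 ∧ CoxeterMatrix.E₆ i j ≠ 6 := fun i j => by
  fin_cases i <;> fin_cases j <;> decide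

theorem slE7 : ∀ i j, CoxeterMatrix.E₇ i j ≠ 4 ∧ CoxeterMatrix.E₇ i j ≠ 6 := fun i j => by
  fin_cases i <;> fin_cases j <;> decide

theorem slE8 : ∀ i j, CoxeterMatrix.E₈ i j ≠ 4 ∧ CoxeterMatrix.E₈ i j ≠ 6 := fun i j => by
  fin_cases i <;> fin_cases j <;> decide

theorem P6_sq : P6 * P6 = 1 := by decide +kernel

theorem P4_cube : P4 * (P4 * P4) = 1 := by decide +kernel

theorem Gam_sq : GamG ^ 2 = (3 : ℤ) • 1 := by decide +kernel

theorem admG_sq {A : Matrix (Fin 2) (Fin 2) ℤ} (h : AdmL 3 [1, GamG] A) : AdmL 3 [1] (A ^ 2) := by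
  obtain ⟨j, B, hB, rfl⟩ := h
  rcases List.mem_cons.1 hB with rfl | hB
  · exact ⟨j * 2, 1, List.mem_cons_self, by rw [smul_pow, one_pow, pow_mul]⟩
  · rw [List.mem_singleton.1 hB, smul_pow, Gam_sq, smul_smul]
    exact ⟨j * 2 + 1, 1, List.mem_cons_self, by rw [← pow_mul, pow_succ]; rfl⟩

/-! ### the families -/

variable {M : Ideal AlgInt} (hM : IsPModular 3 M) {S : Type} [Group S] [Finite S] [IsSimpleGroup S]
  (hab : ¬ IsMulCommutative S) {F : Type} [Field F] [Fintype F] [CharP F 3]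

theorem exists_e (F : Type) [Field F] [Fintype F] [CharP F 3] : ∃ e, 0 < e ∧ Fintype.card F = 3 ^ e := by
  obtain ⟨n, -, h⟩ := FiniteField.card F 3
  exact ⟨n, n.2, h⟩

theorem lie_exc (h : IsExceptionalChevChar 3 S) : IsLieTypeChar 3 S :=
  .inr (.inr (.inr (.inr (.inr (.inr (.inl h))))))

theorem lie_tw (h : IsTwistedE6D4Char 3 S) : IsLieTypeChar 3 S :=
  .inr (.inr (.inr (.inr (.inr (.inr (.inr (.inl h)))))))

include hM hab

theorem std_G2 (h9 : 4 ≤ Fintype.card F) (i : S ≃* ↥(chevG2.group F)) : Std M S := by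
  obtain ⟨e, he, hF⟩ := exists_e F
  have := charP_closure 3 F
  have := Finite.of_equiv _ i.toEquiv
  have h2 : 2 ≤ e := by
    by_contra h
    rw [hF, show e = 1 by omega] at h9
    omega
  have O := over_G2 (algebraMap F (AlgebraicClosure F)) hF hpG2
  refine std_of ((xsS _ (locFin_closure F) he hF O (Nat.coprime_one_left _) (fun _ => idx_of_one O rfl) List.mem_cons_self
    (grL_G2three _ F)).congr i) hM hab (lie_exc ⟨F, inferInstance, inferInstance, inferInstance, .inl ⟨by omega, ⟨i⟩⟩⟩)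
    (ODD.C2.hn_G2 hpG2 (locFin_closure F) he h2) one_le_two (index_one _).le
    ((oc3_chev hpG2.inList (by simp) F one_le_two (S1035.result rfl (chevG2, 1) (by simp))).congr i) ?_ ?_ _ okG2
    ⟨e, 1, List.mem_cons_self, rfl⟩ (n := 2) (by decide) (fun _ => admG_sq) (by decide)
  · exact (num2 h2).1.trans (det_abs e (mul_one 1)).ge
  · rw [card_out_congr i, S2121.result 3 e hF (by omega), if_pos rfl]
    exact lt_of_lt_of_le (by have := (num2 h2).2; omega) (det_abs e (mul_one 1)).ge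

theorem std_F4 (i : S ≃* ↥(chevF4.group F)) : Std M S := by
  obtain ⟨e, he, hF⟩ := exists_e F
  have := charP_closure 3 F
  have := Finite.of_equiv _ i.toEquiv
  have O := over_F4 (algebraMap F (AlgebraicClosure F)) hF hpF4
  have : Fact (2 < 3) := ⟨by decide⟩
  have hN : HN (chev (p := 3) hpF4 (locFin_closure F) he) :=
    ODD.C2.hn_chev_of_commGen hpF4 _ he (Omega.ML.Ex.Lie2.DatF4.commGen_F4 ⟨-1, neg_ne_zero.2 one_ne_zero, fun h =>
      CharP.neg_one_ne_one (AlgebraicClosure F) 3 (congrArg Subtype.val h)⟩)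
  refine std_of ((xsS _ (locFin_closure F) he hF O (Nat.coprime_one_left _) (fun _ => idx_of_one O rfl) List.mem_cons_self
    (grL_F4 3 _ F (by decide))).congr i) hM hab (lie_exc ⟨F, inferInstance, inferInstance, inferInstance, .inr (.inl ⟨i⟩)⟩) hN one_le_two (index_one _).le
    ((oc3_chev hpF4.inList (by simp) F one_le_two (S1035.result rfl (chevF4, 1) (by simp))).congr i) ?_ ?_ _ okF4
    ⟨e, 1, List.mem_cons_self, rfl⟩ (n := 1) (by decide) (fun _ => admL_pow) (by decide)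
  · exact (num he le_rfl).1.trans (det_abs e (mul_one 1)).ge
  · rw [card_out_congr i, S2122.result 3 e hF, show Nat.gcd 2 3 = 1 from rfl]
    exact lt_of_lt_of_le (by have := (num he le_rfl).2; omega) (det_abs e (mul_one 1)).ge

theorem std_E6 (i : S ≃* ↥(chevE6.group F)) : Std M S := by
  obtain ⟨e, he, hF⟩ := exists_e F
  have := Finite.of_equiv _ i.toEquiv
  have h := (has_E6 hF).congr i
  rw [gcd_sub he] at h
  obtain ⟨k, _, _, _, X, ⟨s⟩⟩ := h
  refine std_of s hM hab (lie_exc ⟨F, inferInstance, inferInstance, inferInstance, .inr (.inr (.inl ⟨i⟩))⟩) (hn_sl X (mul_one 1) slE6) one_le_two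
    (index_one _).le ((oc3_chev hpE6.inList (by simp) F (by rw [hF, gcd_sub he]; decide)
      (S1035.result rfl (chevE6, Nat.gcd 3 (Fintype.card F - 1)) (by simp))).congr i) ?_ ?_ _ okE6
    ⟨e, 1, List.mem_cons_self, rfl⟩ (n := 1) (by decide) (fun _ => admL_pow) (by decide)
  · exact (num he (by decide)).1.trans (det_abs e (mul_one 1)).ge
  · rw [card_out_congr i, S2123.result 3 e hF, gcd_sub he]
    exact lt_of_lt_of_le (by have := (num he (l := 6) (by decide)).2; omega) (det_abs e (mul_one 1)).ge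

theorem std_E7 (i : S ≃* ↥(chevE7.group F)) : Std M S := by
  obtain ⟨e, he, hF⟩ := exists_e F
  have := charP_closure 3 F
  have := Finite.of_equiv _ i.toEquiv
  have O := over_E7 (algebraMap F (AlgebraicClosure F)) hF hpE7
  have hi : (O.congr i).hom.range.index ≤ 2 := by
    rw [show (O.congr i).hom.range = O.hom.range from Subgroup.ext fun g => by
      rw [Over.mem_range, Over.mem_range, MonoidHom.range_comp, MonoidHom.range_eq_top.2 i.surjective,
        ← MonoidHom.range_eq_map]]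
    exact Nat.le_of_dvd two_pos ((index_dvd_E7 _ hF hpE7).trans (Nat.gcd_dvd_left _ _))
  refine std_of ((xsS _ (locFin_closure F) he hF O (cop_sub three_pos he 2) (fun _ => index_dvd_E7 _ hF hpE7)
    List.mem_cons_self (grL_E7 3 _ F)).congr i) hM hab (lie_exc ⟨F, inferInstance, inferInstance, inferInstance, .inr (.inr (.inr (.inl ⟨i⟩)))⟩)
    (hn_sl _ (mul_one 1) slE7) le_rfl hi ((oc3_chev hpE7.inList (by simp) F (gcd_two_le _)
      (S1035.result rfl (chevE7, Nat.gcd 2 (Fintype.card F - 1)) (by simp))).congr i) ?_ ?_ _ okE7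
    ⟨e, 1, List.mem_cons_self, rfl⟩ (n := 1) (by decide) (fun _ => admL_pow) (by decide)
  · exact (num he (by decide)).1.trans (det_abs e (mul_one 1)).ge
  · rw [card_out_congr i, S2124.result 3 e hF]
    have h1 := Nat.mul_le_mul_right e (gcd_two_le (3 ^ e - 1))
    exact lt_of_lt_of_le (by have := (num he (l := 7) (by decide)).2; omega) (det_abs e (mul_one 1)).ge

theorem std_E8 (i : S ≃* ↥(chevE8.group F)) : Std M S := by
  obtain ⟨e, he, hF⟩ := exists_e F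
  have := Finite.of_equiv _ i.toEquiv
  obtain ⟨k, _, _, _, X, ⟨s⟩⟩ := (has_E8 hF).congr i
  refine std_of s hM hab (lie_exc ⟨F, inferInstance, inferInstance, inferInstance, .inr (.inr (.inr (.inr ⟨i⟩)))⟩) (hn_sl X (mul_one 1) slE8) one_le_two
    (index_one _).le ((oc3_chev hpE8.inList (by simp) F one_le_two (S1035.result rfl (chevE8, 1) (by simp))).congr i)
    ?_ ?_ _ okE8 ⟨e, 1, List.mem_cons_self, rfl⟩ (n := 1) (by decide) (fun _ => admF_admL List.mem_cons_self) (by decide)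
  · exact (num he (by decide)).1.trans (det_abs e (mul_one 1)).ge
  · rw [card_out_congr i, S2125.result 3 e hF]
    exact lt_of_lt_of_le (by have := (num he (l := 8) (by decide)).2; omega) (det_abs e (mul_one 1)).ge

omit hM hab in
theorem exists_e' {q j : ℕ} (hq : IsPrimePow q) (hj : j ≠ 0) (hK : Fintype.card F = q ^ j) : ∃ e, 0 < e ∧ q = 3 ^ e := by
  obtain ⟨p, e, hp, he, rfl⟩ := (isPrimePow_nat_iff q).1 hq
  obtain ⟨n, hn, h⟩ := exists_e F
  have h1 : p ∣ 3 ^ n := by rw [← h, hK]; exact (dvd_pow_self p he.ne').trans (dvd_pow_self _ hj)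
  obtain rfl := (Nat.prime_dvd_prime_iff_eq hp Nat.prime_three).1 (hp.dvd_of_dvd_pow h1)
  exact ⟨e, he, rfl⟩

theorem std_2E6 {q : ℕ} (hq : IsPrimePow q) (hK : Fintype.card F = q ^ 2) (i : S ≃* ↥(twistedE6 F q)) : Std M S := by
  obtain ⟨e, he, rfl⟩ := exists_e' hq two_ne_zero hK
  have := Finite.of_equiv _ i.toEquiv
  have h := (has_2E6 hK).congr i
  rw [gcd_add he] at h
  obtain ⟨k, _, _, _, X, ⟨s⟩⟩ := h
  obtain ⟨N, _, h1, h2⟩ := H493.NCRow.exists_N_TwE6 hq hK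
  rw [gcd_add he, Subgroup.card_eq_one] at h1
  subst h1
  refine std_of s hM hab (lie_tw ⟨F, inferInstance, inferInstance, inferInstance, _, hq, .inl ⟨hK, ⟨i⟩⟩⟩) (hn_sl X P6_sq slE6) one_le_two
    (index_one _).le ((oc3_of_cyclic (isCyclic_of_surjective _ QuotientGroup.quotientBot.surjective)).congr i) ?_ ?_ _ okE6
    ⟨e, P6, by simp, rfl⟩ (n := 1) (by decide) (fun _ => admF_admL List.mem_cons_self) (by decide)
  · exact (num he (by decide)).1.trans (det_abs e P6_sq).ge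
  · rw [card_out_congr i, S2130.result 3 e (by rw [hK, ← pow_mul, mul_comm]) he, gcd_add he]
    exact lt_of_lt_of_le (by have := (num he (l := 6) (by decide)).2; omega) (det_abs e P6_sq).ge

theorem std_3D4 {q : ℕ} (hq : IsPrimePow q) (hK : Fintype.card F = q ^ 3) (i : S ≃* ↥(twistedD4 F q)) : Std M S := by
  obtain ⟨e, he, rfl⟩ := exists_e' hq three_ne_zero hK
  obtain ⟨k, _, _, _, X, ⟨s⟩⟩ := (has_3D4 hK).congr i
  refine std_of s hM hab (lie_tw ⟨F, inferInstance, inferInstance, inferInstance, _, hq, .inr ⟨hK, ⟨i⟩⟩⟩) (hn_sl X P4_cube slD4) one_le_two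
    (index_one _).le ((oc3_of_cyclic (cyc_of_cycOut (H523.TwD4.cycOut hq hK 3))).congr i) ?_ ?_ _ okD4
    ⟨e, P4, by simp, rfl⟩ (n := 1) (by decide) (fun _ => admF_admL List.mem_cons_self) (by decide)
  · exact (num he le_rfl).1.trans (det_abs e P4_cube).ge
  · rw [card_out_congr i, S2129.result 3 e (by rw [hK, ← pow_mul, mul_comm]) he]
    exact lt_of_lt_of_le (by have := (num he le_rfl).2; omega) (det_abs e P4_cube).ge

omit hM hab

/-- **`²E₆(q)` and `³D₄(q)` in characteristic `3`** -/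
theorem row_tw : Row fun S _ => IsTwistedE6D4Char 3 S :=
  row_of fun _ hM _ _ _ _ hab _ ⟨_, _, _, _, _, hq, h⟩ =>
    h.elim (fun ⟨hK, ⟨i⟩⟩ => std_2E6 hM hab hq hK i) fun ⟨hK, ⟨i⟩⟩ => std_3D4 hM hab hq hK i

/-- `G₂(3)` -/
def IsoG23 (S : Type) [Group S] : Prop :=
  ∃ (F : Type) (_ : Field F) (_ : Fintype F), Fintype.card F = 3 ∧ Nonempty (S ≃* ↥(chevG2.group F))

/-- the untwisted exceptional groups in characteristic `3`, given the row of `G₂(3)` -/
theorem row_exc_of (h : Row IsoG23) : Row fun S _ => IsExceptionalChevChar 3 S := by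
  refine (h.or (row_of (K := fun S _ => IsExceptionalChevChar 3 S ∧ ¬ IsoG23 S) ?_)).mono fun S _ h1 => ?_
  · rintro M hM S _ _ _ hab - ⟨⟨F, _, _, _, ⟨h1, ⟨i⟩⟩ | ⟨⟨i⟩⟩ | ⟨⟨i⟩⟩ | ⟨⟨i⟩⟩ | ⟨⟨i⟩⟩⟩, h2⟩
    · exact std_G2 hM hab (lt_of_le_of_ne h1 fun e => h2 ⟨F, inferInstance, inferInstance, e.symm, ⟨i⟩⟩) i
    · exact std_F4 hM hab i
    · exact std_E6 hM hab i
    · exact std_E7 hM hab i
    · exact std_E8 hM hab i
  · exact (em' _).symm.imp_right fun h2 => ⟨h1, h2⟩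

end Cfsg.Agent.KZ.Ch3X
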