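import Cfsg.Agent.KZ.G2.Vec

/-!
# KZ, `G₂(3)`: integer vectors (helper3)

`ana`: the multiplicities in two generalized characters of norm `6` and degrees `832`, `448` determine the characters of
degree prime to `7` or `13`.
-/

set_option autoImplicit false
set_option linter.unusedSectionVars false

namespace Cfsg.Agent.KZ.Ch3X

open Finset

variable {ι : Type} [Fintype ι] [DecidableEq ι]

theorem one_supp {m : ι → ℤ} (h : ∑ i, m i ^ 2 = 1) {x : ι} (hx : m x ≠ 0) :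
    m x ^ 2 = 1 ∧ ∀ u : ι → ℤ, ∑ i, m i * u i = m x * u x := by
  obtain ⟨h1, h2⟩ := G2.card_supp (n := 1) h (by decide)
  refine ⟨h1 x hx, fun u => sum_eq_single x (fun y _ hy => ?_) fun h => absurd (mem_univ x) h⟩
  by_contra h3
  exact hy (card_le_one.1 h2.le _ (mem_filter.2 ⟨mem_univ _, left_ne_zero_of_mul h3⟩) _ (mem_filter.2 ⟨mem_univ _, hx⟩))

theorem six {g : ι → ℤ} (h : ∑ i, g i ^ 2 = 6) {x y z : ι} (hxy : x ≠ y) (hxz : x ≠ z) (hyz : y ≠ z)
    (hx : g x ^ 2 = 1) (hy : g y ^ 2 = 1) (hz : g z ^ 2 = 1) : ∃ a b c, a ≠ b ∧ a ≠ c ∧ b ≠ c ∧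
      (∀ i, g i ≠ 0 ∧ i ≠ x ∧ i ≠ y ∧ i ≠ z ↔ i = a ∨ i = b ∨ i = c) ∧ (∀ i, g i = 0 ∨ g i = 1 ∨ g i = -1) ∧
      ∀ u : ι → ℤ, ∑ i, g i * u i = g x * u x + g y * u y + g z * u z + (g a * u a + g b * u b + g c * u c) := by
  let g' : ι → ℤ := fun i => if i ∈ ({x, y, z} : Finset ι) then 0 else g i
  have h1 : ∀ u : ι → ℤ, ∑ i, g i * u i = g x * u x + g y * u y + g z * u z + ∑ i, g' i * u i := fun u => by
    have h0 := G2.sum_three (g := fun i => if i ∈ ({x, y, z} : Finset ι) then g i * u i else 0) hxy hxz hyz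
      fun i h1 h2 h3 => if_neg (by simp [h1, h2, h3])
    rw [if_pos (by simp), if_pos (by simp), if_pos (by simp)] at h0
    rw [← h0, ← sum_add_distrib]
    refine sum_congr rfl fun i _ => ?_
    simp only [g']
    split_ifs <;> simp
  have h2 : ∑ i, g' i ^ 2 = 3 := by
    have h3 := h1 g
    simp only [← sq] at h3
    rw [h, hx, hy, hz] at h3
    rw [show (3 : ℤ) = ∑ i, g' i * g i by omega]
    refine sum_congr rfl fun i _ => ?_
    simp only [g']
    split_ifs <;> simp [sq]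
  obtain ⟨h3, h4⟩ := G2.card_supp (n := 3) h2 le_rfl
  obtain ⟨a, b, c, hab, hac, hbc, h5⟩ := card_eq_three.1 h4
  have h6 : ∀ i, g' i ≠ 0 ↔ g i ≠ 0 ∧ i ≠ x ∧ i ≠ y ∧ i ≠ z := fun i => by simp [g', not_or]; tauto
  have h7 : ∀ i, g' i ≠ 0 ↔ i = a ∨ i = b ∨ i = c := fun i => by simpa using congrArg (i ∈ ·) h5
  have h8 : ∀ i, g' i ≠ 0 → g' i = g i := fun i hi => if_neg fun e => hi (if_pos e)
  refine ⟨a, b, c, hab, hac, hbc, fun i => (h6 i).symm.trans (h7 i), fun i => ?_, fun u => ?_⟩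
  · refine (em (g i = 0)).imp_right fun h9 => sq_eq_one_iff.1 ?_
    by_cases h10 : g' i = 0
    · have := (h6 i).not.1 (not_not.2 h10)
      obtain rfl | rfl | rfl : i = x ∨ i = y ∨ i = z := by tauto
      all_goals assumption
    · exact h8 i h10 ▸ h3 i h10
  · rw [h1, G2.sum_three hab hac hbc fun i h1 h2 h3 => by
      rw [not_not.1 ((h7 i).not.2 (by tauto)), zero_mul], h8 a ((h7 a).2 (by simp)), h8 b ((h7 b).2 (by simp)),
      h8 c ((h7 c).2 (by simp))]

theorem dv : ∀ d < 46657, d ∣ 46656 → (d % 91 = 64 → d = 64 ∨ d = 46656) ∧ (d % 91 = 27 → d = 27) := by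
  intro d hd h
  have h1 : ∀ k < 513, ((64 + 91 * k) ∣ 46656 → k = 0 ∨ k = 512) ∧ ((27 + 91 * k) ∣ 46656 → k = 0) := by decide +kernel
  obtain ⟨h2, h3⟩ := h1 (d / 91) (by omega)
  refine ⟨fun e => ?_, fun e => ?_⟩
  · have := h2 (by rwa [← e, Nat.mod_add_div])
    omega
  · have := h3 (by rwa [← e, Nat.mod_add_div])
    omega

theorem dv' {d : ℕ} {m n : ℤ} (h : d ∣ 4245696) (h7 : 7 ∣ (d : ℤ) - m) (h13 : 13 ∣ (d : ℤ) - n) (hm : m = 1 ∨ m = -1)
    (hn : m * n = -1) : n = -m ∧ (m * d = 64 ∨ m * d = 46656 ∨ m * d = -27) := by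
  have h1 : n = -m := by rcases hm with rfl | rfl <;> omega
  have h2 : d ∣ 46656 := by
    have h3 : d.Coprime 7 := ((Nat.Prime.coprime_iff_not_dvd (by decide)).2 (by omega)).symm
    have h4 : d.Coprime 13 := ((Nat.Prime.coprime_iff_not_dvd (by decide)).2 (by omega)).symm
    exact (h3.mul_right h4).dvd_of_dvd_mul_left h
  obtain ⟨h3, h4⟩ := dv d (Nat.lt_succ_of_le (Nat.le_of_dvd (by decide) h2)) h2
  refine ⟨h1, ?_⟩
  rcases hm with rfl | rfl <;> omega

theorem ana (d : ι → ℕ) (μ ν : ι → ℤ) (h1 : ∑ i, μ i ^ 2 = 6) (h2 : ∑ i, ν i ^ 2 = 6) (h3 : ∑ i, μ i * ν i = 0)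
    (h4 : ∑ i, μ i * d i = 832) (h5 : ∑ i, ν i * d i = 448) (hd : ∀ i, d i ∣ 4245696)
    (h7 : ∀ i, (d i = 832 ∧ μ i = 0) ∨ 7 ∣ (d i : ℤ) - μ i) (h13 : ∀ i, (d i = 448 ∧ ν i = 0) ∨ 13 ∣ (d i : ℤ) - ν i)
    {x y z t : ι} (hx : d x = 1) (hy : d y = 729) (hz : d z = 104) (ht : d t = 168) :
    ∃ a b c, a ≠ b ∧ d a = 64 ∧ d b = 64 ∧ d c = 14 ∧ (∀ i, d i = 1 → i = x) ∧ (∀ i, d i = 104 → i = z) ∧
      ∀ i, d i = 14 → i = c := by
  have hb : ∀ g : ι → ℤ, ∑ i, g i ^ 2 = 6 → ∀ i, -2 ≤ g i ∧ g i ≤ 2 := fun g h i => by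
    have h6 := G2.sum_le_univ g {i}
    rw [sum_singleton, h] at h6
    constructor <;> nlinarith
  have hne : ∀ {i j}, d i ≠ d j → i ≠ j := fun h e => h (e ▸ rfl)
  have m1 : ∀ i, d i = 1 ∨ d i = 729 → μ i = 1 := fun i h => by have := hb μ h1 i; have := h7 i; omega
  have m2 : ∀ i, d i = 104 → μ i = -1 := fun i h => by have := hb μ h1 i; have := h7 i; omega
  have m3 : μ t = 0 := by have := hb μ h1 t; have := h7 t; omega
  have n1 : ∀ i, d i = 1 ∨ d i = 729 ∨ d i = 14 → ν i = 1 := fun i h => by have := hb ν h2 i; have := h13 i; omega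
  have n2 : ν t = -1 := by have := hb ν h2 t; have := h13 t; omega
  have n3 : ν z = 0 := by have := hb ν h2 z; have := h13 z; omega
  obtain ⟨a, b, c, hab, hac, hbc, s1, s2, s3⟩ := six h1 (x := x) (y := y) (z := z) (hne (by omega)) (hne (by omega))
    (hne (by omega)) (by rw [m1 x (by omega)]; rfl) (by rw [m1 y (by omega)]; rfl) (by rw [m2 z hz]; rfl)
  obtain ⟨a', b', c', hab', hac', hbc', t1, t2, t3⟩ := six h2 (x := x) (y := y) (z := t) (hne (by omega)) (hne (by omega))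
    (hne (by omega)) (by rw [n1 x (by omega)]; rfl) (by rw [n1 y (by omega)]; rfl) (by rw [n2]; rfl)
  rw [s3, m1 x (by omega), m1 y (by omega), n1 x (by omega), n1 y (by omega), n3] at h3
  rw [s3, m1 x (by omega), m1 y (by omega), m2 z hz, hx, hy, hz] at h4
  rw [t3, n1 x (by omega), n1 y (by omega), n2, hx, hy, ht] at h5
  have key : ∀ a b c, a ≠ b → (∀ i, μ i ≠ 0 ∧ i ≠ x ∧ i ≠ y ∧ i ≠ z ↔ i = a ∨ i = b ∨ i = c) → μ a * ν a = -1 →
      μ b * ν b = -1 → μ a * d a + μ b * d b + μ c * d c = 206 → ∃ a b c, a ≠ b ∧ d a = 64 ∧ d b = 64 ∧ d c = 14 ∧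
        (∀ i, d i = 1 → i = x) ∧ (∀ i, d i = 104 → i = z) ∧ ∀ i, d i = 14 → i = c := by
    intro a b c hab s1 ha hb h4
    have ha0 := (s1 a).2 (.inl rfl)
    have hb0 := (s1 b).2 (.inr (.inl rfl))
    have hc0 := (s1 c).2 (.inr (.inr rfl))
    have ha1 := (s2 a).resolve_left ha0.1
    have hb1 := (s2 b).resolve_left hb0.1
    have hc1 := (s2 c).resolve_left hc0.1
    obtain ⟨a1, a2⟩ := dv' (hd a) ((h7 a).resolve_left fun h => ha0.1 h.2)
      ((h13 a).resolve_left fun h => by rw [h.2] at ha; omega) ha1 ha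
    obtain ⟨b1, b2⟩ := dv' (hd b) ((h7 b).resolve_left fun h => hb0.1 h.2)
      ((h13 b).resolve_left fun h => by rw [h.2] at hb; omega) hb1 hb
    have h6 : (206 - μ a * d a - μ b * d b).natAbs ∣ 4245696 := by
      rw [show 206 - μ a * d a - μ b * d b = μ c * d c by omega, Int.natAbs_mul, Int.natAbs_natCast]
      rcases hc1 with e | e <;> rw [e] <;> simpa using hd c
    have h8 : μ a * d a = 64 ∧ μ b * d b = 64 := by
      rcases a2 with a2 | a2 | a2 <;> rcases b2 with b2 | b2 | b2 <;> rw [a2, b2] at h6 ⊢ <;>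
        first | exact ⟨rfl, rfl⟩ | exact absurd h6 (by decide)
    have a3 : μ a = 1 ∧ d a = 64 := by rcases ha1 with e | e <;> rw [e] at h8 <;> omega
    have b3 : μ b = 1 ∧ d b = 64 := by rcases hb1 with e | e <;> rw [e] at h8 <;> omega
    have c3 : d c = 78 := by rcases hc1 with e | e <;> rw [e] at h4 <;> omega
    have a4 := (t1 a).1 ⟨by omega, ha0.2.1, ha0.2.2.1, hne (by omega)⟩
    have b4 := (t1 b).1 ⟨by omega, hb0.2.1, hb0.2.2.1, hne (by omega)⟩
    have u1 : ∀ i, d i = 1 ∨ d i = 104 → i = x ∨ i = z := fun i h => by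
      by_contra h9
      have := m1 i
      have := m2 i
      rcases (s1 i).1 ⟨by omega, fun e => h9 (.inl e), hne (by omega), fun e => h9 (.inr e)⟩ with rfl | rfl | rfl <;> omega
    have key' : ∀ e, (∀ i, i = a' ∨ i = b' ∨ i = c' → i = a ∨ i = b ∨ i = e) → (e = a' ∨ e = b' ∨ e = c') →
        ν a * d a + ν b * d b + ν e * d e = -114 → d e = 14 ∧ ∀ i, d i = 14 → i = e := fun e h9 h10 h11 => by
      have e0 := ((t1 e).2 h10).1
      rw [a1, b1, a3.1, b3.1, a3.2, b3.2] at h11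
      refine ⟨by rcases t2 e with h | h | h <;> rw [h] at h11 <;> omega, fun i hi => ?_⟩
      have := n1 i
      rcases h9 i ((t1 i).1 ⟨by omega, hne (by omega), hne (by omega), hne (by omega)⟩) with rfl | rfl | rfl <;>
        first | rfl | omega
    obtain ⟨e, he⟩ : ∃ e, d e = 14 ∧ ∀ i, d i = 14 → i = e := by
      rcases a4 with rfl | rfl | rfl <;> rcases b4 with rfl | rfl | rfl <;> first
        | exact absurd rfl hab
        | exact ⟨c', key' c' (fun _ => by simp only [or_comm, or_left_comm, imp_self]) (by simp) (by omega)⟩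
        | exact ⟨b', key' b' (fun _ => by simp only [or_comm, or_left_comm, imp_self]) (by simp) (by omega)⟩
        | exact ⟨a', key' a' (fun _ => by simp only [or_comm, or_left_comm, imp_self]) (by simp) (by omega)⟩
    exact ⟨a, b, e, hab, a3.2, b3.2, he.1, fun i h => (u1 i (.inl h)).resolve_right (hne (by omega)),
      fun i h => (u1 i (.inr h)).resolve_left (hne (by omega)), he.2⟩
  have hp : ∀ i, -1 ≤ μ i * ν i := fun i => by
    rcases s2 i with e | e | e <;> rcases t2 i with e' | e' | e' <;> rw [e, e'] <;> decide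
  have := hp a
  have := hp b
  have := hp c
  obtain h | h | h : (μ a * ν a = -1 ∧ μ b * ν b = -1) ∨ (μ a * ν a = -1 ∧ μ c * ν c = -1) ∨
    (μ b * ν b = -1 ∧ μ c * ν c = -1) := by omega
  · exact key a b c hab s1 h.1 h.2 (by omega)
  · exact key a c b hac (fun i => (s1 i).trans (by simp only [or_comm, or_left_comm])) h.1 h.2 (by omega)
  · exact key b c a hbc (fun i => (s1 i).trans (by simp only [or_comm, or_left_comm])) h.1 h.2 (by omega)

end Cfsg.Agent.KZ.Ch3X
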