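import Cfsg.Agent.KZ.Ch3X.Ree
import Cfsg.Agent.KZ.Ch3X.G23A
import Cfsg.Agent.KZ.G2.Chr
import Cfsg.Agent.H954.DR.RowG2

/-!
# KZ, the group `G₂(3)` (helper3)

`row_G23`, `row_exc`.  The Deligne-Lusztig characters of the tori of orders `7` and `13` give ten characters of degree prime
to `3`, three of which are determined by their degrees.
-/

set_option autoImplicit false
set_option linter.unusedSectionVars false
set_option maxHeartbeats 400000

namespace Cfsg.Agent.KZ.Ch3X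

open Cfsg Cfsg.Lie Cfsg.Agent.KZ.Tool Cfsg.Agent.KZ.Red Cfsg.Agent.KZ.Res Cfsg.Agent.DL Cfsg.Agent.DL.PP Cfsg.Agent.DL.Ex
  Cfsg.Agent.DL.Uni Cfsg.Agent.KZ.DatX Cfsg.Agent.Nodes.RGDChev Cfsg.Agent.Characters.Core Matrix
open Cfsg.Agent.KZ.Lie (RW Fr Tc ordT RW_gen RW_ip RW_zero RW_conj RW_deg val_one)
open Cfsg.Agent.KZ.G2 (mu mu_spec mu_eq sum_mu sum_mu_sq tc_iff fx_one rel_oo)

theorem sum_deg {G : Type} [Group G] [Fintype G] [Fintype (IrrCharacter G)] {φ : G → ℂ}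
    (h : IsGeneralizedCharacter G φ) : ((∑ χ, mu φ χ * charDegree (χ : G → ℂ) : ℤ) : ℂ) = φ 1 := by
  obtain ⟨m, rfl⟩ := isGeneralizedCharacter_iff.1 h
  rw [Finset.sum_apply, Int.cast_sum]
  refine Finset.sum_congr rfl fun χ _ => ?_
  have h1 := congrArg (starRingEnd ℂ) (classInner_sum_zsmul_irr m χ)
  rw [classInner_conj_symm, map_intCast] at h1
  rw [mu_eq h1, Int.cast_mul, Int.cast_natCast, deg_cast (isIrr_isCharacter χ.2), Pi.smul_apply, zsmul_eq_mul]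

theorem pow_det {R : Type} [Fintype R] [DecidableEq R] {A : Matrix R R ℤ} {c : R → ℂˣ} (h : mon Aᵀ c = c) :
    c ^ (A - 1).det.natAbs = 1 := by
  have h1 : mon (A - 1)ᵀ c = 1 := by rw [transpose_sub, transpose_one, mon_sub, mon_one, h, mul_inv_cancel]
  rw [pow_natAbs_eq_one, ← det_transpose, ← mon_one c, ← mon_zsmul, ← adjugate_mul, mon_mul, h1, map_one]

theorem lab_inj {R : Type} [Fintype R] {n : ℕ} {x y : R → ℤ} (hn : n ≠ 0) (h : lab n x = lab n y) (j : R) :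
    (n : ℤ) ∣ x j - y j := by
  have h1 : xi n ^ x j = xi n ^ y j := congrFun h j
  rw [zpow_eq_zpow_iff_modEq, orderOf_xi hn] at h1
  exact h1.symm.dvd

/-- ten characters of degree prime to `3`, the first three of which are determined by their degrees -/
def Ten (T : Type) [Group T] : Prop :=
  ∃ θ : Fin 10 → IrrCharacter T, Function.Injective θ ∧ (∀ i, ¬ 3 ∣ charDegree (θ i : T → ℂ)) ∧
    ∀ i < 3, ∀ χ : IrrCharacter T, charDegree (χ : T → ℂ) = charDegree (θ i : T → ℂ) → χ = θ i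

theorem deg_tr {S T : Type} [Group S] [Group T] (e : S ≃* T) (χ : IrrCharacter T) :
    charDegree (tr e χ : S → ℂ) = charDegree (χ : T → ℂ) := deg_eq (by rw [tr_apply, map_one])

theorem Ten.congr {S T : Type} [Group S] [Group T] (e : S ≃* T) (h : Ten T) : Ten S := by
  obtain ⟨θ, h1, h2, h3⟩ := h
  refine ⟨fun i => tr e (θ i), (tr e).injective.comp h1, fun i => by rw [deg_tr]; exact h2 i, fun i hi χ h => ?_⟩
  obtain ⟨χ, rfl⟩ := (tr e).surjective χ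
  rw [deg_tr, deg_tr] at h
  exact congrArg _ (h3 i hi χ h)

/-! ### matrices -/

/-- the matrix of the Frobenius map -/
def M3 : Matrix (Fin 2) (Fin 2) ℤ := (3 : ℤ) ^ 1 • 1

/-- the determinant -/
def d2 (B : Matrix (Fin 2) (Fin 2) ℤ) : ℤ := B 0 0 * B 1 1 - B 0 1 * B 1 0

/-- the order of the torus -/
def dt (B : Matrix (Fin 2) (Fin 2) ℤ) : ℕ := (d2 (B * M3 - 1)).natAbs

/-- the matrix of a word -/
def wm (L : List (Fin 2)) : Matrix (Fin 2) (Fin 2) ℤ := (L.map (sM chevG2 2)).prod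

/-- the torus of type `L` has the prime order `r` -/
def Ok (r : ℕ) (L : List (Fin 2)) : Prop :=
  dt (wm L) = r ∧ d2 (wm L) = 1 ∧
    (∀ B ∈ L12, r ∣ dt B → dt B = r ∧ (∃ C ∈ L12, B * M3 * C = C * (wm L * M3)) ∧
      ∀ C ∈ L12, B * M3 * C = C * (B * M3) → C = 1 ∨ (d2 (C - 1)).natAbs.Coprime r) ∧
    (∑ B ∈ L12.toFinset, if r ∣ dt B then 1 else 0) = 2 ∧
    (∑ C ∈ L12.toFinset, if wm L * M3 * C = C * (wm L * M3) then 1 else 0) = 6

theorem ok7 : Ok 7 [0, 1] := by unfold Ok; decide +kernel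

theorem ok13 : Ok 13 [0, 1, 0, 1] := by unfold Ok; decide +kernel

theorem ok0 : (∑ C ∈ L12.toFinset, if wm [0, 1, 0, 1] * M3 * C = C * (wm [0, 1] * M3) then 1 else 0) = 0 ∧
    L12.toFinset.card = 12 ∧ ∑ B ∈ L12.toFinset, dt B = 108 := by decide +kernel

/-- the types of five regular labels -/
def rL : Fin 5 → List (Fin 2) := ![[0, 1], [0, 1, 0, 1], [0, 1, 0, 1], [0], [1]]

/-- the exponents of five regular labels -/
def rx : Fin 5 → Fin 2 → ℤ := ![![104, 208], ![56, 448], ![112, 168], ![91, 364], ![364, 91]]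

theorem okR : ∀ i, (∀ j, ((728 : ℕ) : ℤ) ∣ (rx i ᵥ* (wm (rL i) * M3)) j - rx i j) ∧ dt (wm (rL i)) ≠ 0 ∧
    ![832, 448, 448, 728, 728] i * dt (wm (rL i)) = 5824 ∧
    ∀ i', ∀ C ∈ L12, (∀ j, ((728 : ℕ) : ℤ) ∣ (rx i' ᵥ* C) j - rx i j) → i = i' ∧ C = 1 := by decide +kernel

section

variable {k : Type} [Field k] [CharP k 3] [IsAlgClosed k] (X : XF hpG2 3 k M3)

theorem map_W [Fintype X.D.W] : Finset.univ.map ⟨X.D.Wm, X.Wm_inj⟩ = L12.toFinset := by
  refine Finset.eq_of_subset_of_card_le (fun B hB => ?_) ?_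
  · obtain ⟨w, -, rfl⟩ := Finset.mem_map.1 hB
    exact List.mem_toFinset.2 (mem_L12 X w)
  · rw [Finset.card_map, Finset.card_univ, ← Nat.card_eq_fintype_card, show Nat.card X.D.W = 12 from card_W_G2]
    exact ok0.2.1.le

theorem sum_W [Fintype X.D.W] (g : Matrix (Fin 2) (Fin 2) ℤ → ℕ) : ∑ w, g (X.D.Wm w) = ∑ B ∈ L12.toFinset, g B :=
  (Finset.sum_map Finset.univ ⟨X.D.Wm, X.Wm_inj⟩ g).symm.trans (congrArg (Finset.sum · g) (map_W X))

theorem exists_W {B : Matrix (Fin 2) (Fin 2) ℤ} (h : B ∈ L12) : ∃ w, X.D.Wm w = B := by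
  have := Fintype.ofFinite X.D.W
  obtain ⟨w, -, h1⟩ := Finset.mem_map.1 ((map_W X).ge (List.mem_toFinset.2 h))
  exact ⟨w, h1⟩

theorem ordT_eq (w : X.D.W) : ordT X.D w = dt (X.D.Wm w) := congrArg Int.natAbs (det_fin_two _)

/-- the element of a word -/
noncomputable def ww (L : List (Fin 2)) : X.D.W := CoxeterMatrix.G₂.toCoxeterSystem.wordProd L

theorem Wm_ww (L : List (Fin 2)) : X.D.Wm (ww X L) = wm L := X.Wm_word L

theorem card_tc (L L' : List (Fin 2)) : Nat.card {v : X.D.W // Tc X.D v (ww X L) (ww X L') ∧ Rel X.D v 1 1} =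
    ∑ C ∈ L12.toFinset, if wm L' * M3 * C = C * (wm L * M3) then 1 else 0 := by
  classical
  have := Fintype.ofFinite X.D.W
  rw [← sum_W X, Nat.card_eq_fintype_card, Fintype.card_subtype, Finset.card_filter]
  refine Finset.sum_congr rfl fun v _ => if_congr ?_ rfl rfl
  rw [and_iff_left (rel_oo v), tc_iff, Wm_ww, Wm_ww]
  rfl

theorem card_cls_nine : Nat.card (Quotient (clsSetoid X.D)) = 9 := by
  have := Fintype.ofFinite X.D.W
  have h1 := card_cls X.D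
  rw [← Nat.card_eq_fintype_card, show Nat.card X.D.W = 12 from card_W_G2,
    show ∑ w, (X.D.Wm w * X.D.Mx - 1).det.natAbs = 108 from
      (Finset.sum_congr rfl fun w _ => ordT_eq X w).trans ((sum_W X dt).trans ok0.2.2)] at h1
  omega

variable {X} [Fintype ↥(GF X.F ⊤)] [Fintype (IrrCharacter ↥(GF X.F ⊤))] (f : Fr X.D)

/-- the degree -/
noncomputable def dg (w : X.D.W) (c : X.D.R → ℂˣ) : ℤ := ∑ χ, mu (RW f w c) χ * charDegree (χ : ↥(GF X.F ⊤) → ℂ)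

theorem dg_cast (w : X.D.W) (c : X.D.R → ℂˣ) : (dg f w c : ℂ) = RW f w c 1 := sum_deg (RW_gen f w c)

theorem fx_of_mu {w : X.D.W} {c : X.D.R → ℂˣ} {χ : IrrCharacter ↥(GF X.F ⊤)} (h : mu (RW f w c) χ ≠ 0) : Fx X.D w c := by
  by_contra h1
  exact h (mu_eq (by rw [RW_zero f h1, classInner_zero_right, Int.cast_zero]))

variable (hp : pc' 3 (GF X.F ⊤) = 5824)
include hp

theorem dg_mul {w : X.D.W} {c : X.D.R → ℂˣ} (h : Fx X.D w c) : dg f w c * dt (X.D.Wm w) = (X.D.Wm w).det * 5824 := by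
  have h1 := RW_deg f X.D_qs h
  rw [← dg_cast, ordT_eq, hp, Lie.sg] at h1
  exact_mod_cast h1

/-- the regular labels -/
theorem reg {w : X.D.W} {c : X.D.R → ℂˣ} (h : Fx X.D w c) (h1 : ∀ v, Tc X.D v w w → Rel X.D v c c → v = 1) :
    (∃ χ, mu (RW f w c) χ ≠ 0) ∧ ∀ χ, mu (RW f w c) χ ≠ 0 → charDegree (χ : ↥(GF X.F ⊤) → ℂ) * dt (X.D.Wm w) = 5824 ∧
      ∀ w' c', (∀ v, ¬ Rel X.D v c c') → mu (RW f w' c') χ = 0 := by
  have h2 : ∑ χ, mu (RW f w c) χ ^ 2 = (1 : ℕ) := sum_mu_sq (RW_gen f w c) (by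
    rw [RW_ip f h h, Nat.card_eq_one_iff_unique.2 ⟨⟨fun a b => Subtype.ext ((h1 _ a.2.1 a.2.2).trans (h1 _ b.2.1 b.2.2).symm)⟩,
      ⟨⟨1, Lie.tc_one w, rel_one _ c⟩⟩⟩])
  refine ⟨?_, fun χ hχ => ?_⟩
  · obtain ⟨χ, -, h3⟩ := Finset.exists_ne_zero_of_sum_ne_zero (h2.trans_ne (by decide))
    exact ⟨χ, fun e => h3 (by rw [e]; rfl)⟩
  classical
  obtain ⟨h3, h4⟩ := one_supp h2 hχ
  refine ⟨?_, fun w' c' h5 => by_contra fun h6 => ?_⟩
  · have h5 := congrArg Int.natAbs (dg_mul f hp h)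
    have h6 : (X.D.Wm w).det.natAbs = 1 := by
      rcases Lie.sgZ_sign X.D w with e | e <;> exact congrArg Int.natAbs e
    have h7 : (mu (RW f w c) χ).natAbs = 1 := by rcases sq_eq_one_iff.1 h3 with e | e <;> exact congrArg Int.natAbs e
    rwa [dg, h4, Int.natAbs_mul, Int.natAbs_mul, Int.natAbs_mul, h6, h7, one_mul, one_mul, Int.natAbs_natCast,
      Int.natAbs_natCast] at h5
  · have : IsEmpty {v // Tc X.D v w w' ∧ Rel X.D v c c'} := ⟨fun v => h5 v.1 v.2.2⟩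
    have h7 := sum_mu (n := 0) (RW_gen f w c) (RW_gen f w' c') (by rw [RW_ip f h (fx_of_mu f h6), Nat.card_of_isEmpty])
    rw [h4] at h7
    exact mul_ne_zero hχ h6 h7

include f in
theorem exists_reg : ∃ θ : Fin 5 → IrrCharacter ↥(GF X.F ⊤), Function.Injective θ ∧
    ∀ i, charDegree (θ i : ↥(GF X.F ⊤) → ℂ) = ![832, 448, 448, 728, 728] i := by
  have h1 : ∀ i i' v, Rel X.D v (lab 728 (rx i)) (lab 728 (rx i')) → i = i' ∧ X.D.Wm v = 1 := fun i i' v h =>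
    (okR i).2.2.2 i' _ (mem_L12 X v) (lab_inj (by decide) ((mon_lab (R := Fin 2) _).symm.trans (rel_iff.1 h)))
  have h2 := fun i => reg f hp (w := ww X (rL i)) (c := lab 728 (rx i))
    (fun v => by
      rw [← chr_tr, Wm_ww]
      exact congrArg (chr v) ((mon_lab (R := Fin 2) _).trans (lab_congr (by decide) (okR i).1)))
    fun v _ h => X.Wm_inj ((h1 i i v h).2.trans X.D.Wm_one.symm)
  choose θ hθ using fun i => (h2 i).1
  refine ⟨θ, fun i j e => by_contra fun h3 => hθ j (e ▸ ((h2 i).2 _ (hθ i)).2 _ _ fun v h => h3 (h1 i j v h).1), fun i => ?_⟩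
  have h3 := ((h2 i).2 _ (hθ i)).1
  rw [Wm_ww, ← (okR i).2.2.1] at h3
  exact Nat.eq_of_mul_eq_mul_right (Nat.pos_of_ne_zero (okR i).2.1) h3

theorem dg_ww {r n : ℕ} (hr : r.Prime) {L : List (Fin 2)} (h : Ok r L) (hn : r * n = 5824) : dg f (ww X L) 1 = n := by
  have h1 := dg_mul f hp (fx_one (ww X L))
  rw [show (X.D.Wm (ww X L)).det = 1 from (det_fin_two _).trans ((congrArg d2 (Wm_ww X L)).trans h.2.1), Wm_ww, h.1,
    one_mul] at h1
  refine mul_right_cancel₀ (Nat.cast_ne_zero.2 hr.ne_zero) (h1.trans ?_)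
  rw [mul_comm]
  exact_mod_cast hn.symm

/-- the congruence of the degrees -/
theorem cong {r n : ℕ} (hr : r.Prime) {L : List (Fin 2)} (h : Ok r L) (hn : r * n = 5824) (χ : IrrCharacter ↥(GF X.F ⊤)) :
    (charDegree (χ : ↥(GF X.F ⊤) → ℂ) = n ∧ mu (RW f (ww X L) 1) χ = 0) ∨
      (r : ℤ) ∣ 12 * charDegree (χ : ↥(GF X.F ⊤) → ℂ) - 2 * (mu (RW f (ww X L) 1) χ * n) := by
  by_cases hc : ∃ w c, r ∣ dt (X.D.Wm w) ∧ c ≠ 1 ∧ mu (RW f w c) χ ≠ 0
  · obtain ⟨w, c, h1, h2, h3⟩ := hc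
    obtain ⟨h4, -, h5⟩ := h.2.2.1 _ (mem_L12 X w) h1
    have h6 := fx_of_mu f h3
    obtain ⟨h7, h8⟩ := (reg f hp h6 fun v hv hv' => by
      refine ((h5 _ (mem_L12 X v) (tc_iff.1 hv)).imp_left fun e => X.Wm_inj (e.trans X.D.Wm_one.symm)).resolve_right
        fun e => h2 ?_
      have h9 := pow_det (rel_iff.1 hv')
      have h10 : c ^ ordT X.D w = 1 := pow_det (eq_of_chr X.D fun x => by rw [chr_tr, h6])
      rw [ordT_eq, h4] at h10
      rw [← pow_one c, ← e, pow_gcd_eq_one]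
      exact ⟨(congrArg (fun n : ℤ => c ^ n.natAbs) (det_fin_two _)).symm.trans h9, h10⟩).2 χ h3
    refine .inl ⟨?_, h8 _ _ fun v hv => h2 (G2.eq_one_of_rel hv)⟩
    rw [h4, ← hn, mul_comm] at h7
    exact Nat.eq_of_mul_eq_mul_left hr.pos h7
  have := Fintype.ofFinite X.D.W
  have h1 : ∀ w, ∃ m : ℤ, ∑ᶠ c, classInner (χ : ↥(GF X.F ⊤) → ℂ) (RW f w c) * RW f w c 1 =
      (r * m + (if r ∣ dt (X.D.Wm w) then 1 else 0 : ℕ) * (mu (RW f (ww X L) 1) χ * n) : ℤ) := fun w => by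
    split_ifs with h1
    · obtain ⟨-, ⟨C, hC, h2⟩, -⟩ := h.2.2.1 _ (mem_L12 X w) h1
      obtain ⟨v, rfl⟩ := exists_W X hC
      refine ⟨0, (finsum_eq_single _ 1 fun c h3 => ?_).trans ?_⟩
      · rw [mu_spec (RW_gen f w c), not_not.1 fun h4 => hc ⟨w, c, h1, h3, h4⟩, Int.cast_zero, zero_mul]
      · rw [← RW_conj f (v := v) (w := ww X L) (tc_iff.2 (by rw [Wm_ww]; exact h2)) (rel_oo v), mu_spec (RW_gen f _ _),
          ← dg_cast, dg_ww f hp hr h hn]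
        simp
    · refine finsum_induction (fun z : ℂ => ∃ m : ℤ, z = (r * m + (0 : ℕ) * (mu (RW f (ww X L) 1) χ * n) : ℤ))
        ⟨0, by simp⟩ (fun _ _ ⟨a, ha⟩ ⟨b, hb⟩ => ⟨a + b, by rw [ha, hb]; push_cast; ring⟩) fun c => ?_
      rw [mu_spec (RW_gen f w c), ← dg_cast]
      by_cases h2 : mu (RW f w c) χ = 0
      · exact ⟨0, by simp [h2]⟩
      obtain ⟨m, hm⟩ : (r : ℤ) ∣ dg f w c := by
        refine ((Nat.prime_iff_prime_int.1 hr).dvd_or_dvd (b := dt (X.D.Wm w)) ?_).resolve_right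
          fun e => h1 (Int.natCast_dvd_natCast.1 e)
        rw [dg_mul f hp (fx_of_mu f h2)]
        exact Dvd.dvd.mul_left (Int.natCast_dvd_natCast.2 (⟨n, hn.symm⟩ : r ∣ 5824)) _
      exact ⟨mu (RW f w c) χ * m, by rw [hm]; push_cast; ring⟩
  choose m hm using h1
  have h2 := val_one f (χ : ↥(GF X.F ⊤) → ℂ)
  rw [finsum_eq_sum_of_fintype, Finset.sum_congr rfl fun w _ => hm w, ← Int.cast_sum, Finset.sum_add_distrib,
    ← Finset.mul_sum, ← Finset.sum_mul, ← Nat.cast_sum, sum_W X fun B => if r ∣ dt B then 1 else 0, h.2.2.2.1,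
    show Nat.card X.D.W = 12 from card_W_G2, ← deg_cast (isIrr_isCharacter χ.2),
    eq_inv_mul_iff_mul_eq₀ (by norm_num)] at h2
  exact .inr ⟨∑ w, m w, sub_eq_iff_eq_add.2 (by exact_mod_cast h2)⟩

omit hp in
include f in
theorem ten_GF (hc : Nat.card ↥(GF X.F ⊤) = 4245696) (hd : ∀ n ∈ [729, 104, 168], n ∈ charDegrees ↥(GF X.F ⊤)) :
    Ten ↥(GF X.F ⊤) := by
  classical
  have hp : pc' 3 (GF X.F ⊤) = 5824 := by
    rw [pc', hc, show 4245696 = 3 ^ 6 * 5824 from rfl, Nat.factorization_mul (by decide) (by decide),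
      Nat.prime_three.factorization_pow, Finsupp.add_apply, Finsupp.single_eq_same,
      Nat.factorization_eq_zero_of_not_dvd (by decide)]
    rfl
  obtain ⟨y, hy⟩ := hd 729 (by simp)
  obtain ⟨z, hz⟩ := hd 104 (by simp)
  obtain ⟨t, ht⟩ := hd 168 (by simp)
  obtain ⟨a, b, c, hab, ha, hb, hc', h1, h2, h3⟩ := ana (fun χ : IrrCharacter ↥(GF X.F ⊤) => charDegree (χ : ↥(GF X.F ⊤) → ℂ))
    (mu (RW f (ww X [0, 1]) 1)) (mu (RW f (ww X [0, 1, 0, 1]) 1))
    (sum_mu_sq (n := 6) (RW_gen f _ _) (by rw [RW_ip f (fx_one _) (fx_one _), card_tc, ok7.2.2.2.2]))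
    (sum_mu_sq (n := 6) (RW_gen f _ _) (by rw [RW_ip f (fx_one _) (fx_one _), card_tc, ok13.2.2.2.2]))
    (sum_mu (n := 0) (RW_gen f _ _) (RW_gen f _ _) (by rw [RW_ip f (fx_one _) (fx_one _), card_tc, ok0.1]))
    (dg_ww f hp (n := 832) (by decide) ok7 rfl) (dg_ww f hp (n := 448) (by decide) ok13 rfl)
    (fun χ => hc ▸ H424.DegTools.dvd_card ⟨χ, rfl⟩)
    (fun χ => (cong f hp (n := 832) (by decide) ok7 rfl χ).imp_right fun h => by omega)
    (fun χ => (cong f hp (n := 448) (by decide) ok13 rfl χ).imp_right fun h => by omega)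
    (x := triv _) (deg_of_eq Nat.cast_one.symm) hy hz ht
  obtain ⟨θ, h4, h5⟩ := exists_reg f hp
  let D : Fin 10 → ℕ := ![1, 14, 104, 64, 64, 832, 448, 448, 728, 728]
  let η : Fin 10 → IrrCharacter ↥(GF X.F ⊤) := ![triv _, c, z, a, b, θ 0, θ 1, θ 2, θ 3, θ 4]
  have h6 : ∀ i, charDegree (η i : ↥(GF X.F ⊤) → ℂ) = D i := fun i => by
    fin_cases i
    exacts [deg_of_eq Nat.cast_one.symm, hc', hz, ha, hb, h5 0, h5 1, h5 2, h5 3, h5 4]
  have h7 : ∀ i j, i < j → D i = D j → (i = 3 ∧ j = 4) ∨ (i = 6 ∧ j = 7) ∨ (i = 8 ∧ j = 9) := by decide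
  refine ⟨η, Function.Injective.of_lt_imp_ne fun i j hij e => ?_, fun i => ?_, fun i hi χ h => ?_⟩
  · obtain ⟨rfl, rfl⟩ | ⟨rfl, rfl⟩ | ⟨rfl, rfl⟩ := h7 i j hij (by rw [← h6, e, h6])
    exacts [hab e, absurd (h4 e) (by decide), absurd (h4 e) (by decide)]
  · rw [h6]
    revert i
    decide
  · rw [h6] at h
    obtain rfl | rfl | rfl : i = 0 ∨ i = 1 ∨ i = 2 := by omega
    exacts [h1 χ h, h3 χ h, h2 χ h]

end

variable {M : Ideal AlgInt} (hM : IsPModular 3 M) {S : Type} [Group S] [Finite S] [IsSimpleGroup S]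
  (hab : ¬ IsMulCommutative S)

/-- ten characters and a large abelianization -/
theorem ten_G23 (h : IsoG23 S) : Ten S ∧ ∀ P : Sylow 3 S, 9 < nab P := by
  obtain ⟨F, _, _, hF, ⟨i⟩⟩ := h
  obtain ⟨_, _, -⟩ := Tw.setup' (j := 1) Nat.prime_three one_ne_zero hF
  have O := over_G2 (algebraMap F (AlgebraicClosure F)) (e := 1) hF hpG2
  obtain ⟨X, ⟨s⟩⟩ : ∃ X : XF hpG2 3 (AlgebraicClosure F) M3, Nonempty (XS X (AdmL 3 [1, GamG]) 1 S) :=
    ⟨_, ⟨(xsS _ (locFin_closure F) one_pos hF O (Nat.coprime_one_left _) (fun _ => idx_of_one O rfl) List.mem_cons_self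
      (grL_G2three _ F)).congr i⟩⟩
  have := X.finite
  have := Fintype.ofFinite ↥(GF X.F ⊤)
  have := finite_irr (G := ↥(GF X.F ⊤))
  have := Fintype.ofFinite (IrrCharacter ↥(GF X.F ⊤))
  obtain ⟨f⟩ := Lie.nonempty_fr X.D
  let e := MulEquiv.ofBijective (em s).j ⟨(em s).inj, MonoidHom.range_eq_top.1 (Subgroup.index_eq_one.1 (index_one s))⟩
  have h1 : ∀ n ∈ charDegrees ↥(chevG2.group F), n ∈ charDegrees ↥(GF X.F ⊤) := by
    rintro _ ⟨χ, rfl⟩
    exact ⟨_, deg_tr (e.symm.trans i) χ⟩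
  obtain ⟨d₁, d₂, -, h2, h3, -, m1, m2, -⟩ := H954.DR.RowG2.unip (K := F)
  have m3 := H954.DR.RowG2.st_mem (K := F)
  rw [hF] at h2 h3 m3
  have h4 := ten_GF f (by rw [Nat.card_congr (e.symm.trans i).toEquiv, S1059.result hF]; rfl) (by
    simp only [List.mem_cons, List.not_mem_nil, or_false]
    rintro _ (rfl | rfl | rfl)
    exacts [h1 _ m3, h1 _ ((show d₁ = 104 by omega) ▸ m1), h1 _ ((show d₂ = 168 by omega) ▸ m2)])
  refine ⟨h4.congr e, fun P => not_le.1 fun hP => ?_⟩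
  obtain ⟨θ, h5, h6, -⟩ := h4
  have h7 := card_pp_le X.D_qs (cz X) ((em s).hn X.D_qs P (by rw [prod_ex]; exact hP.trans (det_abs (l := 2) 1 (mul_one 1)).ge))
  have h8 := Nat.card_le_card_of_injective (fun j => (⟨θ j, h6 j⟩ : {χ : IrrCharacter ↥(GF X.F ⊤) //
    ¬ 3 ∣ charDegree (χ : ↥(GF X.F ⊤) → ℂ)})) fun _ _ e => h5 (congrArg Subtype.val e)
  rw [card_cls_nine] at h7
  rw [Nat.card_fin] at h8
  omega

theorem lie_G23 (h : IsoG23 S) : IsLieTypeChar 3 S ∧ Nat.card (Out S) = 2 := by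
  obtain ⟨F, _, _, hF, ⟨i⟩⟩ := h
  obtain ⟨_, -⟩ := Tw.setup' (j := 1) Nat.prime_three one_ne_zero hF
  exact ⟨lie_exc ⟨F, inferInstance, inferInstance, inferInstance, .inl ⟨hF.ge, ⟨i⟩⟩⟩,
    (card_out_congr i).trans (S2121.result 3 1 hF le_rfl)⟩

include hM hab in
theorem fam_G23 (h : IsoG23 S) : 10 ≤ k0 M S ∧ ∃ θ : Fin 3 → IrrCharacter S, Function.Injective θ ∧ (∀ i, Mem M (θ i)) ∧
    ∀ σ i, Fixes σ (θ i) := by
  obtain ⟨θ, h1, h2, h3⟩ := (ten_G23 h).1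
  have := finite_irr (G := S)
  have h4 := fun i => mem_of_lie hM hab (lie_G23 h).1 (h2 i)
  refine ⟨(Nat.card_fin 10).ge.trans (Nat.card_le_card_of_injective (fun i => (⟨θ i, h4 i⟩ : {χ // Mem M χ}))
    fun _ _ e => h1 (congrArg Subtype.val e)), fun i => θ (i.castLE (by decide)),
    h1.comp (Fin.castLE_injective (by decide)), fun _ => h4 _, fun σ i => ?_⟩
  exact congrFun (congrArg Subtype.val (h3 _ i.2 _ (deg_tr σ _)))

include hM hab in
theorem inv_G23 (h : IsoG23 S) (Y : Subgroup (MulAut S)) : InvA M Y := by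
  obtain ⟨-, θ, h1, h2, h3⟩ := fam_G23 hM hab h
  exact invA_of_three θ h2 (fun i j h => apart_of_fixes (h3 · i) (h1.ne h)) fun σ _ => h3 σ

/-- **`G₂(3)`** -/
theorem row_G23 : Row IsoG23 where
  up M hM A _ _ N hA h P hP := by
    have := hA.normal
    have := hA.simple
    obtain ⟨Q⟩ : Nonempty (Sylow 3 ↥N) := inferInstance
    have h1 := (ten_G23 h).2 Q
    rw [nab_sub (fun h3 => absurd (h3.trans ((lie_G23 h).2 ▸ index_dvd_out hA.cent)) (by decide)) P] at h1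
    omega
  lo M hM A _ _ N hA h _ _ _ := by
    have := hA.normal
    have := hA.simple
    obtain ⟨h1, θ, h2, h3, h4⟩ := fam_G23 hM hA.nonab h
    have h5 := le_fx (M := M) (N := N) θ h2 h3 fun i g _ => h4 _ i
    rw [Fintype.card_fin] at h5
    rcases index_two hM (Nat.le_of_dvd two_pos ((lie_G23 h).2 ▸ index_dvd_out hA.cent)) with h6 | h6 <;> omega
  two M hM S _ _ _ hab _ h := (inv_G23 hM hab h ⊥).two
  inv M hM S _ _ _ hab _ h Y _ := .inl (inv_G23 hM hab h Y)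

/-- **the untwisted exceptional groups in characteristic `3`** -/
theorem row_exc : Row fun S _ => IsExceptionalChevChar 3 S := row_exc_of row_G23

end Cfsg.Agent.KZ.Ch3X
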