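import Cfsg.Agent.KZ.Ch3X.Lab
import Cfsg.Agent.KZ.DatX.Defs
import Cfsg.Agent.ODD.C2.HN1

/-!
# KZ, defining characteristic `3`: the adjoint data (helper3)

* `Em.std`: the generic criterion; `xi`, `lab`: explicit labels;
* `cz`, `prod_ex`, `cls_ge`, `hn_sl`, `em`, `cj_word`, `std_of`.
-/

set_option autoImplicit false
set_option linter.unusedSectionVars false
set_option maxHeartbeats 400000

namespace Cfsg.Agent.KZ.Ch3X

open Cfsg Cfsg.Lie Cfsg.Agent.KZ.Tool Cfsg.Agent.KZ.Red Cfsg.Agent.KZ.Res Cfsg.Agent.DL Cfsg.Agent.DL.PP Cfsg.Agent.DL.Uni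
  Cfsg.Agent.Nodes.Reps Cfsg.Agent.Tits.Roots Cfsg.Agent.KZ.DatX Cfsg.Agent.Nodes.RGDChev Matrix

theorem k0_of_lie {M : Ideal AlgInt} (hM : IsPModular 3 M) {S : Type} [Group S] [Finite S] [IsSimpleGroup S]
    (hab : ¬ IsMulCommutative S) (h : IsLieTypeChar 3 S) :
    k0 M S = Nat.card {ψ : IrrCharacter S // ¬ 3 ∣ charDegree (ψ : S → ℂ)} :=
  Nat.card_congr (Equiv.subtypeEquivRight fun _ => ⟨fun h1 => h1.2, mem_of_lie hM hab h⟩)

theorem inj_of_apart {S ι : Type} [Group S] {θ : ι → IrrCharacter S} (h : ∀ i j, i ≠ j → Apart (θ i) (θ j)) :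
    Function.Injective θ := fun i j e => by_contra fun h1 => apart3_ne (apart3_of_apart (h i j h1)) e

theorem fixes_of_three {S : Type} [Group S] {X : Subgroup (MulAut S)} (hX : IsPGroup 3 ↥X) {θ : IrrCharacter S} {n : ℕ}
    (hn : ¬ 3 ∣ n) {σ : MulAut S} (hσ : σ ∈ X) (h : Fixes (σ ^ n) θ) : Fixes σ θ := by
  obtain ⟨j, hj⟩ := hX ⟨σ, hσ⟩
  refine fixes_of_coprime (((Nat.Prime.coprime_iff_not_dvd Nat.prime_three).2 hn).symm.pow_right j) h ?_
  rw [show σ ^ 3 ^ j = 1 from congrArg Subtype.val hj]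
  exact fixes_one θ

theorem not_dvd_two_mul {n : ℕ} (hn : ¬ 3 ∣ n) : ¬ 3 ∣ 2 * n := by omega

/-- **the generic criterion** -/
theorem Em.std {k : Type} [Field k] [CharP k 3] {Y : Type} [Group Y] {N : Type} [Fintype N]
    [DecidableEq N] {ρ : Y →* GL N k} {F : MulAut Y} {G : Subgroup Y} [IsAlgClosed k] {D : Datum 3 ρ F G}
    {Adm : Matrix D.R D.R ℤ → Prop} {S : Type} [Group S] [IsSimpleGroup S] (E : Em D Adm S) {M : Ideal AlgInt}
    (hM : IsPModular 3 M) (hab : ¬ IsMulCommutative S) (hl : IsLieTypeChar 3 S) (h : D.QS) (hZ : CZ D) (hN : HN D)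
    (h2 : E.j.range.index ≤ 2) (oc : OC3 S) (big : 81 ≤ ∏ i, 3 ^ D.ex (sr i))
    (cnt : E.j.range.index * (8 * Nat.card (Out S) + 1) < Nat.card (Quotient (clsSetoid D)))
    {ι : Type} [Fintype ι] (c : ι → D.R → ℂˣ) (hc : ∀ i j, orderOf (c i) = orderOf (c j) → i = j)
    (hF : ∀ i, Cj D (c i) (mon D.Mxᵀ (c i))) {n : ℕ} (hn : ¬ 3 ∣ n)
    (hA : ∀ A, Adm A → ∀ i, Cj D (c i) (mon (A ^ n)ᵀ (c i))) (hm : 3 * E.j.range.index < Fintype.card ι) : Std M S := by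
  have := D.amb.finite_GF G
  have := Fintype.ofFinite ↥(GF F G)
  have := E.finite
  obtain ⟨θ, h3, h4, h5⟩ := Em.fam h hZ hN h2 c hc hF (n := n) (by omega) hA 3 hm
  have h6 : ∀ i, Mem M (θ i) := fun i => mem_of_lie hM hab hl (h3 i)
  refine ⟨oc, .inl ((E.big h).mono big), ?_, p4_of_fam θ (by simp) h6 (inj_of_apart h4) fun σ s hs i => ?_, fun X hX =>
    invA_of_three (fun i => θ i.castSucc) (fun _ => h6 _) (fun i j hij => h4 _ _ fun e => hij (Fin.castSucc_injective _ e))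
      fun σ hσ i => fixes_of_three hX (not_dvd_two_mul hn) hσ (h5 σ _)⟩
  · rw [k0_of_lie hM hab hl]
    exact Nat.lt_of_mul_lt_mul_left (cnt.trans_le (E.cnt hZ))
  · refine fixes_of_coprime ((Nat.Prime.coprime_iff_not_dvd Nat.prime_three).2 (not_dvd_two_mul hn)) ?_ (h5 σ i)
    rw [hs]
    exact fixes_conj s _

/-! ### explicit labels -/

theorem exists_xi (n : ℕ) : ∃ ξ : ℂˣ, n ≠ 0 → orderOf ξ = n := by
  by_cases hn : n = 0
  · exact ⟨1, fun h => absurd hn h⟩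
  · exact ⟨_, fun _ => ((Complex.isPrimitiveRoot_exp n hn).isUnit_unit hn).eq_orderOf.symm⟩

/-- a root of unity of order `n` -/
noncomputable def xi (n : ℕ) : ℂˣ := (exists_xi n).choose

theorem orderOf_xi {n : ℕ} (hn : n ≠ 0) : orderOf (xi n) = n := (exists_xi n).choose_spec hn

section Lab

variable {R : Type} [Fintype R] {n : ℕ} {x y : R → ℤ}

/-- the label with the exponents `x` modulo `n` -/
noncomputable def lab (n : ℕ) (x : R → ℤ) : R → ℂˣ := coch x (xi n)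

theorem lab_congr (hn : n ≠ 0) (h : ∀ j, (n : ℤ) ∣ x j - y j) : lab n x = lab n y := funext fun j => by
  show xi n ^ x j = xi n ^ y j
  rw [zpow_eq_zpow_iff_modEq, orderOf_xi hn]
  exact (Int.modEq_iff_dvd.2 (h j)).symm

theorem mon_lab (B : Matrix R R ℤ) : mon Bᵀ (lab n x) = lab n (x ᵥ* B) := by
  rw [lab, mon_coch, mulVec_transpose, lab]

theorem lab_pow (m : ℕ) : lab n x ^ m = lab n ((m : ℤ) • x) := funext fun j => by
  show (xi n ^ x j) ^ m = xi n ^ ((m : ℤ) * x j)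
  rw [mul_comm, _root_.zpow_mul, zpow_natCast]

theorem orderOf_lab (hn : n ≠ 0) (h : ∃ j, x j = 1) : orderOf (lab n x) = n := by
  obtain ⟨j, hj⟩ := h
  refine Nat.dvd_antisymm (orderOf_dvd_of_pow_eq_one (funext fun i => ?_)) ?_
  · show (xi n ^ x i) ^ n = 1
    rw [← zpow_natCast, ← _root_.zpow_mul, mul_comm, _root_.zpow_mul, zpow_natCast]
    conv_lhs => rw [← orderOf_xi hn, orderOf_xi hn, show xi n ^ n = 1 from by
      conv_lhs => rw [← orderOf_xi hn, orderOf_xi hn]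
      exact orderOf_dvd_iff_pow_eq_one.1 (orderOf_xi hn).dvd]
    exact _root_.one_zpow _
  · have h1 := orderOf_map_dvd (Pi.evalMonoidHom (fun _ : R => ℂˣ) j) (lab n x)
    rwa [show Pi.evalMonoidHom (fun _ : R => ℂˣ) j (lab n x) = xi n from (congrArg (xi n ^ ·) hj).trans (zpow_one _),
      orderOf_xi hn] at h1

end Lab

/-! ### the adjoint data -/

variable {C : ChevalleyDatum} {l : ℕ} {M : CoxeterMatrix (Fin l)} {hp : IsType C l M} {k : Type} [Field k] [CharP k 3]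
  [IsAlgClosed k] {Mx : Matrix (Fin l) (Fin l) ℤ} (X : XF hp 3 k Mx)

theorem cz : CZ X.D := ⟨0, fun i => Pi.single i 1, fun b i => by
  rw [pow_zero, one_mul]
  exact (dotProduct_single b 1 i).trans (mul_one _)⟩

theorem psi_eq : Psi X.D = Mx := by
  have key : ∀ W P : Matrix (Fin l) (Fin l) ℤ, (∀ i, W i = Pi.single i 1) → W * Mx = P * W → P = Mx := fun W P h1 h => by
    have h2 : W = 1 := Matrix.ext fun i j => by rw [h1, Pi.single_apply, Matrix.one_apply]; exact if_congr eq_comm rfl rfl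
    rw [h2, Matrix.mul_one, Matrix.one_mul] at h
    exact h.symm
  exact key (Wt X.D) (Psi X.D) (fun _ => rfl) (Wt_Mx X.D_qs)

theorem prod_ex : ∏ i, 3 ^ X.D.ex (sr i) = Mx.det.natAbs := (natAbs_det_Psi X.D).symm.trans (by rw [psi_eq]; rfl)

theorem cls_ge : Mx.det.natAbs ≤ Nat.card (Quotient (clsSetoid X.D)) :=
  (prod_ex X).ge.trans (card_cls_ge X.D_qs (by rw [psi_eq]; rfl))

theorem exists_dot {a : Fin l → ℤ} (ha : X.D.Rt a) : ∃ v, a ⬝ᵥ v = 1 := by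
  obtain ⟨w, i, rfl⟩ := ha
  refine ⟨X.D.Wm w *ᵥ Pi.single i 1, (dotProduct_mulVec _ _ _).trans ?_⟩
  refine (congrArg (· ⬝ᵥ Pi.single i 1) (X.D.wt_act w (sr i))).trans ?_
  exact (dotProduct_single _ 1 i).trans ((mul_one _).trans (Pi.single_eq_same i 1))

theorem hn_sl {e : ℕ} {P Q : Matrix (Fin l) (Fin l) ℤ} (X : XF hp 3 k ((3 : ℤ) ^ e • P)) (h : P * Q = 1)
    (hs : ∀ i j, M i j ≠ 4 ∧ M i j ≠ 6) : HN X.D := by
  refine ODD.C2.hn_of_sl X.D X.D_qs hs (e := e) fun (a : Fin l → ℤ) ha => ?_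
  show X.ex a = e
  have h1 := wt_gw (D := X.D) 1 ha
  rw [X.D.Wm_one, show X.D.act 1 (X.D.g a) = X.D.g a from by rw [Datum.act, map_one]; rfl] at h1
  have h2 : (3 : ℤ) ^ e • (X.g a ᵥ* P) = (3 : ℤ) ^ X.ex a • a := by
    rw [← vecMul_smul]
    exact (congrArg (X.g a ᵥ* ·) (Matrix.one_mul _).symm).trans h1
  have h3 : (3 : ℤ) ^ e • X.g a = (3 : ℤ) ^ X.ex a • (a ᵥ* Q) := by
    rw [← smul_vecMul, ← h2, smul_vecMul, vecMul_vecMul, h, vecMul_one]
  obtain ⟨v, hv⟩ := exists_dot X ha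
  obtain ⟨v', hv'⟩ := exists_dot X (X.g_root a ha)
  have h4 := congrArg (· ⬝ᵥ v) h2
  have h5 := congrArg (· ⬝ᵥ v') h3
  simp only [smul_dotProduct, hv, hv', smul_eq_mul, mul_one] at h4 h5
  exact le_antisymm ((pow_dvd_pow_iff (a := (3 : ℤ)) (by norm_num) (by decide)).1 ⟨_, h5⟩)
    ((pow_dvd_pow_iff (a := (3 : ℤ)) (by norm_num) (by decide)).1 ⟨_, h4.symm⟩)

/-- the action of a word on the exponents -/
def wd (C : ChevalleyDatum) (l : ℕ) (L : List (Fin l)) (x : Fin l → ℤ) : Fin l → ℤ := L.foldl (fun v i => v ᵥ* sM C l i) x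

theorem wd_eq (L : List (Fin l)) (x : Fin l → ℤ) : wd C l L x = x ᵥ* (L.map (sM C l)).prod := by
  induction L generalizing x with
  | nil => exact (vecMul_one x).symm
  | cons i L ih => rw [List.map_cons, List.prod_cons, ← vecMul_vecMul, ← ih]; rfl

theorem cj_word {n : ℕ} (hn : n ≠ 0) {x y : Fin l → ℤ} (L : List (Fin l)) (h : ∀ j, (n : ℤ) ∣ wd C l L y j - x j) :
    Cj X.D (lab n x) (lab n y) :=
  ⟨M.toCoxeterSystem.wordProd L, rel_iff.2 ((mon_lab (R := Fin l) _).trans (lab_congr hn (by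
    rwa [X.Wm_word, ← wd_eq])))⟩

variable {X} {Adm : Matrix (Fin l) (Fin l) ℤ → Prop} {d : ℕ} {S : Type} [Group S]

/-- the embedding -/
def em (s : XS X Adm d S) : Em X.D Adm S where
  j := s.ov.hom
  inj := s.ov.hom_inj
  normal := s.ov.normal
  cop h :=
    have := X.finite
    absurd ((Nat.dvd_gcd (s.ov.prime_dvd Nat.prime_three h) dvd_rfl).trans s.cop.dvd) (by decide)
  aut σ := by
    obtain ⟨g, hg, α, A, h1, h2, h3⟩ := s.aut σ
    exact ⟨⟨g, hg⟩, α, A, h1, h2, fun a => Subtype.ext (h3 a)⟩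

theorem index_one (s : XS X Adm 1 S) : (em s).j.range.index = 1 := (Nat.dvd_one.1 (s.idx odd_one) :)

/-- a table of labels: orders, exponents, and words which conjugate the cube of the label to the label -/
structure Tb (l m : ℕ) where
  n : Fin m → ℕ
  x : Fin m → Fin l → ℤ
  w : Fin m → List (Fin l)

/-- the labels have different orders, are conjugate to their cubes and fixed by the matrices of `L` -/
def Tb.Ok (C : ChevalleyDatum) {m : ℕ} (T : Tb l m) (L : List (Matrix (Fin l) (Fin l) ℤ)) : Prop :=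
  (∀ i j, T.n i = T.n j → i = j) ∧ ∀ i, T.n i ≠ 0 ∧ (∃ j, T.x i j = 1) ∧
    (∀ j, (T.n i : ℤ) ∣ wd C l (T.w i) ((3 : ℤ) • T.x i) j - T.x i j) ∧ ∀ B ∈ L, ∀ j, (T.n i : ℤ) ∣ T.x i j - (T.x i ᵥ* B) j

instance Tb.decOk (C : ChevalleyDatum) {m : ℕ} (T : Tb l m) (L : List (Matrix (Fin l) (Fin l) ℤ)) :
    Decidable (T.Ok C L) := by
  unfold Tb.Ok; infer_instance

variable (X) in
theorem Tb.Ok.cj {m : ℕ} {T : Tb l m} {L : List (Matrix (Fin l) (Fin l) ℤ)} (h : T.Ok C L)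
    {A : Matrix (Fin l) (Fin l) ℤ} (hA : AdmL 3 L A) (i : Fin m) :
    Cj X.D (lab (T.n i) (T.x i)) (mon Aᵀ (lab (T.n i) (T.x i))) := by
  obtain ⟨j, B, hB, rfl⟩ := hA
  obtain ⟨h1, -, h2, h3⟩ := h.2 i
  have h4 : Cj X.D (lab (T.n i) (T.x i)) (lab (T.n i) (T.x i) ^ 3 : Fin l → ℂˣ) :=
    (lab_pow (n := T.n i) (x := T.x i) 3).symm ▸ cj_word X h1 _ h2
  have h5 : Cj X.D (lab (T.n i) (T.x i)) (mon Bᵀ (lab (T.n i) (T.x i))) := by
    rw [mon_lab, ← lab_congr h1 (h3 B hB)]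
    exact Cj.refl (D := X.D) _
  exact Cj.smul (D := X.D) h4 h5 j

theorem std_of [IsSimpleGroup S] (s : XS X Adm d S) {M : Ideal AlgInt} (hM : IsPModular 3 M) (hab : ¬ IsMulCommutative S)
    (hl : IsLieTypeChar 3 S) (hN : HN X.D) {b : ℕ} (hb : b ≤ 2) (hi : (em s).j.range.index ≤ b) (oc : OC3 S)
    (big : 81 ≤ Mx.det.natAbs) (cnt : b * (8 * Nat.card (Out S) + 1) < Mx.det.natAbs) {m : ℕ} (T : Tb l m)
    {L : List (Matrix (Fin l) (Fin l) ℤ)} (h : T.Ok C L) (hF : AdmL 3 L Mx) {n : ℕ} (hn : ¬ 3 ∣ n)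
    (hA : ∀ A, Adm A → AdmL 3 L (A ^ n)) (hm : 3 * b < m) : Std M S :=
  (em s).std hM hab hl X.D_qs (cz X) hN (hi.trans hb) oc (big.trans (prod_ex X).ge)
    ((Nat.mul_le_mul_right _ hi).trans_lt (cnt.trans_le (cls_ge X))) (fun i => lab (T.n i) (T.x i))
    (fun i j e => h.1 i j ((orderOf_lab (h.2 i).1 (h.2 i).2.1).symm.trans (e.trans (orderOf_lab (h.2 j).1 (h.2 j).2.1))))
    (h.cj X hF) hn (fun A h1 => h.cj X (hA A h1))
    ((Nat.mul_le_mul_left _ hi).trans_lt (by rwa [Fintype.card_fin]))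

end Cfsg.Agent.KZ.Ch3X
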