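import Cfsg.Agent.KZ.Tool.Res2
import Cfsg.Agent.KZ.Tool.Crit
import Cfsg.Agent.KZ.Red.Nab
import Cfsg.Agent.S4613

/-!
# KZ, defining characteristic `3`: the generic part (helper3)

* `mem_of_lie`: in characteristic `3` every character of degree prime to `3` is a member;
* `OC3 S`: the `3`-subgroups of `Out S` are cyclic; `Big n S`: a Sylow `3`-subgroup has a commutative image of exponent `3`
  with at least `n` elements;
* `nab_ge`, `nab_ge'`: the abelianization of a Sylow `3`-subgroup of an almost simple group has at least `27` elements;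
* `ten_le_of_count`: ten members by counting.
-/

set_option autoImplicit false
set_option linter.unusedSectionVars false

namespace Cfsg.Agent.KZ.Ch3X

open Cfsg Cfsg.Agent.KZ.Tool Cfsg.Agent.KZ.Red Cfsg.Agent.KZ.Res Subgroup

universe u v

/-! ### members -/

theorem mem_of_lie {M : Ideal AlgInt} (hM : IsPModular 3 M) {S : Type u} [Group S] [Finite S] [IsSimpleGroup S]
    (hab : ¬ IsMulCommutative S) (h : IsLieTypeChar 3 S) {χ : IrrCharacter S} (hχ : ¬ 3 ∣ charDegree (χ : S → ℂ)) :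
    Mem M χ := by
  have : Fact (Nat.Prime 3) := ⟨Nat.prime_three⟩
  obtain ⟨P⟩ : Nonempty (Sylow 3 S) := inferInstance
  refine mem_of_cent hM P (fun x hx h3 => ?_) hχ
  have h1 : MulAut.conj x = 1 := by
    refine S4613.result 3 h _ (fun h4 => h3 (h4.trans (orderOf_map_dvd _ x))) P fun y hy => ?_
    rw [MulAut.conj_apply, ← hx y hy, mul_inv_cancel_right]
  have h2 : x ∈ center S := mem_center_iff.2 fun y => by
    have h4 : x * y * x⁻¹ = y := by simpa using DFunLike.congr_fun h1 y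
    rw [← h4, inv_mul_cancel_right, h4]
  rcases (inferInstance : (center S).Normal).eq_bot_or_eq_top with h4 | h4
  · rwa [h4, mem_bot] at h2
  · exact absurd ⟨⟨fun a b => (mem_center_iff.1 (h4 ▸ mem_top b) a)⟩⟩ hab

/-! ### a cyclic `3`-group acting on a group of exponent `3` -/

theorem card_le_pow {V : Type u} [AddCommGroup V] [Finite V] (δ : AddMonoid.End V) (n : ℕ) (h : δ ^ n = 0) :
    Nat.card V ≤ (δ : V →+ V).range.index ^ n := by
  have hc : Nat.card (δ : V →+ V).ker = (δ : V →+ V).range.index := by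
    have h1 := (δ : V →+ V).ker.card_mul_index
    have h2 := (δ : V →+ V).range.index_mul_card
    rw [AddSubgroup.index_ker (δ : V →+ V), ← h2] at h1
    exact Nat.eq_of_mul_eq_mul_right Nat.card_pos h1
  have key : ∀ j : ℕ, Nat.card V ≤ (δ : V →+ V).range.index ^ j * Nat.card ((δ ^ j : AddMonoid.End V) : V →+ V).range := by
    intro j
    induction j with
    | zero =>
      rw [pow_zero, one_mul, pow_zero]
      exact Nat.card_le_card_of_injective (fun x => ⟨x, x, rfl⟩) fun a b e => congrArg Subtype.val e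
    | succ j ih =>
      refine ih.trans ?_
      rw [pow_succ, mul_assoc]
      refine Nat.mul_le_mul_left _ ?_
      set W := ((δ ^ j : AddMonoid.End V) : V →+ V).range
      have h1 := ((δ : V →+ V).comp W.subtype).ker.card_mul_index
      rw [AddSubgroup.index_ker] at h1
      rw [← h1, ← hc]
      refine Nat.mul_le_mul (Nat.card_le_card_of_injective (fun x => ⟨x.1.1, x.2⟩) fun a b e =>
        Subtype.ext (Subtype.ext (congrArg (fun z : (δ : V →+ V).ker => (z : V)) e))) (AddSubgroup.card_le_of_le ?_)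
      rintro _ ⟨⟨_, x, rfl⟩, rfl⟩
      exact ⟨x, by rw [pow_succ']; rfl⟩
  have h1 := key n
  rw [h] at h1
  have h2 : ((0 : AddMonoid.End V) : V →+ V).range = ⊥ := by
    rw [eq_bot_iff]
    rintro _ ⟨x, rfl⟩
    rfl
  rwa [h2, AddSubgroup.card_bot, mul_one] at h1

theorem sub_one_pow {R : Type u} [Ring R] (h3 : (3 : R) = 0) (x : R) (a : ℕ) : (x - 1) ^ 3 ^ a = x ^ 3 ^ a - 1 := by
  induction a with
  | zero => simp
  | succ a ih =>
    rw [pow_succ 3, pow_mul, ih, pow_mul]
    have h : ∀ y : R, (y - 1) ^ 3 = y ^ 3 - 1 - 3 * (y ^ 2 - y) := fun y => by noncomm_ring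
    rw [h, h3, zero_mul, sub_zero]

/-- the commutative case -/
theorem key_ab {G : Type u} [Group G] [Finite G] (V : Subgroup G) [hV : V.Normal] (hc : ∀ x ∈ V, ∀ y ∈ V, x * y = y * x)
    (h3 : ∀ x ∈ V, x ^ 3 = 1) (hq : IsCyclic (G ⧸ V)) {a : ℕ} (ha : V.index = 3 ^ a) :
    ∃ c : ℕ, Nat.card V ≤ c ^ 3 ^ a ∧ 3 ^ a * c ≤ (_root_.commutator G).index := by
  obtain ⟨g', hg⟩ := hq.exists_monoid_generator
  obtain ⟨g, rfl⟩ := QuotientGroup.mk_surjective g'
  let _ : CommGroup V := { (inferInstance : Group V) with mul_comm := fun x y => Subtype.ext (hc _ x.2 _ y.2) }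
  let φ : G →* AddMonoid.End (Additive V) :=
    { toFun := fun x => MonoidHom.toAdditive (MulAut.conjNormal x : MulAut V).toMonoidHom
      map_one' := by rw [map_one]; rfl
      map_mul' := fun x y => by rw [map_mul]; rfl }
  have hφ : ∀ x (v : V), ((φ x (Additive.ofMul v)).toMul : G) = x * v * x⁻¹ := fun x v => MulAut.conjNormal_apply x v
  have h0 : (3 : AddMonoid.End (Additive V)) = 0 := by
    refine AddMonoidHom.ext fun v => ?_
    have h : (v.toMul : V) ^ 3 = 1 := Subtype.ext (h3 _ v.toMul.2)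
    exact (AddMonoid.End.ofNat_apply 3 v).trans (congrArg Additive.ofMul h)
  have h1 : φ g ^ 3 ^ a = 1 := by
    rw [← map_pow, ← ha]
    refine AddMonoidHom.ext fun v => Additive.toMul.injective (Subtype.ext ((hφ _ v.toMul).trans ?_))
    rw [hc _ (V.pow_index_mem g) _ v.toMul.2, mul_inv_cancel_right]
    rfl
  have h2 : (φ g - 1) ^ 3 ^ a = 0 := by rw [sub_one_pow h0, h1, sub_self]
  set R := ((φ g - 1 : AddMonoid.End (Additive V)) : Additive V →+ Additive V).range with hR
  refine ⟨R.index, card_le_pow (V := Additive V) _ _ h2, ?_⟩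
  let L : Subgroup G := (AddSubgroup.toSubgroup' R).map V.subtype
  have hLV : L ≤ V := map_subtype_le _
  have hL : ∀ v ∈ V, g * v * g⁻¹ * v⁻¹ ∈ L := fun v hv =>
    ⟨(φ g (Additive.ofMul ⟨v, hv⟩)).toMul / ⟨v, hv⟩, ⟨Additive.ofMul ⟨v, hv⟩, rfl⟩, by
      rw [map_div, div_eq_mul_inv]
      exact congrArg (· * v⁻¹) (hφ g ⟨v, hv⟩)⟩
  have hgen : ∀ x : G, ∃ (j : ℕ) (v : G), v ∈ V ∧ x = g ^ j * v := fun x => by
    obtain ⟨j, hj⟩ := hg (x : G ⧸ V)
    exact ⟨j, (g ^ j)⁻¹ * x, QuotientGroup.eq.1 hj, by group⟩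
  have hn : L.Normal := ⟨fun l hl x => by
    obtain ⟨j, v, hv, rfl⟩ := hgen x
    have e : g ^ j * v * l * (g ^ j * v)⁻¹ = g ^ j * l * (g ^ j)⁻¹ := by
      rw [mul_assoc _ v, hc v hv l (hLV hl)]
      group
    rw [e]
    clear e
    induction j with
    | zero => simpa using hl
    | succ j ih =>
      have e : g ^ (j + 1) * l * (g ^ (j + 1))⁻¹ =
        g * (g ^ j * l * (g ^ j)⁻¹) * g⁻¹ * (g ^ j * l * (g ^ j)⁻¹)⁻¹ * (g ^ j * l * (g ^ j)⁻¹) := by group
      rw [e]
      exact mul_mem (hL _ (hLV ih)) ih⟩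
  have hz : ∀ v ∈ V, ∀ x : G, (x : G ⧸ L) * v = v * x := fun v hv x => by
    obtain ⟨j, w, hw, rfl⟩ := hgen x
    have e : Commute (g : G ⧸ L) v := by
      have := (QuotientGroup.eq_one_iff _).2 (hL v hv)
      rw [QuotientGroup.mk_mul, QuotientGroup.mk_mul, QuotientGroup.mk_mul, QuotientGroup.mk_inv, QuotientGroup.mk_inv,
        mul_inv_eq_one, mul_inv_eq_iff_eq_mul] at this
      exact this
    have e' : Commute (w : G ⧸ L) v := congrArg QuotientGroup.mk (hc w hw v hv)
    rw [QuotientGroup.mk_mul, QuotientGroup.mk_pow]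
    exact (e.pow_left j).mul_left e'
  have hcomm := ((QuotientGroup.map L V (MonoidHom.id G) hLV).isMulCommutative_of_isCyclic_of_ker_le_center fun x hx => by
    obtain ⟨x, rfl⟩ := QuotientGroup.mk_surjective x
    refine mem_center_iff.2 fun y => ?_
    obtain ⟨y, rfl⟩ := QuotientGroup.mk_surjective y
    exact hz x ((QuotientGroup.eq_one_iff x).1 hx) y).is_comm.comm
  have hle : _root_.commutator G ≤ L := by
    rw [_root_.commutator_def, commutator_le]
    intro x _ y _
    rw [← QuotientGroup.eq_one_iff, commutatorElement_def, QuotientGroup.mk_mul, QuotientGroup.mk_mul,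
      QuotientGroup.mk_mul, hcomm x, QuotientGroup.mk_inv, QuotientGroup.mk_inv]
    group
  refine le_trans (le_of_eq ?_) (index_antitone hle)
  rw [index_map_of_injective _ V.subtype_injective, range_subtype, ha, mul_comm]
  rfl

/-- the general case -/
theorem key {G : Type u} [Group G] [Finite G] (Q : Subgroup G) [hQ : Q.Normal] {Z : Type v} [CommGroup Z]
    (h3 : ∀ z : Z, z ^ 3 = 1) (π : Q →* Z) (hq : IsCyclic (G ⧸ Q)) {a : ℕ} (ha : Q.index = 3 ^ a) :
    ∃ c : ℕ, Nat.card π.range ≤ c ^ 3 ^ a ∧ 3 ^ a * c ≤ (_root_.commutator G).index := by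
  let W : Subgroup G := (π.ker.map Q.subtype).normalCore
  have hW : ∀ x, x ∈ W ↔ ∀ b : G, b * x * b⁻¹ ∈ π.ker.map Q.subtype := fun _ => Iff.rfl
  have hWQ : W ≤ Q := (normalCore_le _).trans (map_subtype_le _)
  have hs := QuotientGroup.mk'_surjective W
  have hn : (Q.map (QuotientGroup.mk' W)).Normal := hQ.map _ hs
  have hi : (Q.map (QuotientGroup.mk' W)).index = Q.index := index_map_eq _ hs (by rwa [QuotientGroup.ker_mk'])
  obtain ⟨c, h1, h2⟩ := key_ab (Q.map (QuotientGroup.mk' W)) (a := a) (by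
      rintro _ ⟨x, hx, rfl⟩ _ ⟨y, hy, rfl⟩
      rw [← map_mul, ← map_mul]
      refine QuotientGroup.eq.2 ((hW _).2 fun b => ?_)
      refine ⟨((⟨_, hQ.conj_mem x hx b⟩ : Q) * ⟨_, hQ.conj_mem y hy b⟩)⁻¹ *
        (⟨_, hQ.conj_mem y hy b⟩ * ⟨_, hQ.conj_mem x hx b⟩), ?_, ?_⟩
      · show π _ = 1
        rw [map_mul, map_inv, map_mul, map_mul, mul_comm (π _) (π _), inv_mul_cancel]
      · simp only [coe_subtype, coe_mul, coe_inv]
        group)
    (by
      rintro _ ⟨x, hx, rfl⟩
      rw [← map_pow]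
      refine (QuotientGroup.eq_one_iff _).2 ((hW _).2 fun b => ⟨(⟨_, hQ.conj_mem x hx b⟩ : Q) ^ 3, ?_, ?_⟩)
      · show π _ = 1
        rw [map_pow, h3]
      · simp only [coe_subtype, coe_pow, conj_pow])
    (isCyclic_of_surjective _ (QuotientGroup.quotientQuotientEquivQuotient W Q hWQ).symm.surjective) (hi.trans ha)
  refine ⟨c, le_trans ?_ h1, h2.trans ?_⟩
  · rw [← index_ker, ← relIndex_ker, QuotientGroup.ker_mk']
    refine index_antitone fun x hx => ?_
    obtain ⟨y, hy, e⟩ := normalCore_le _ hx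
    rwa [show y = x from Subtype.ext e] at hy
  · have e : (_root_.commutator G).map (QuotientGroup.mk' W) = _root_.commutator (G ⧸ W) := by
      rw [_root_.commutator_def, _root_.commutator_def, map_commutator, map_top_of_surjective _ hs]
    rw [← e]
    exact Nat.le_of_dvd (Nat.pos_of_ne_zero index_ne_zero_of_finite) (index_map_dvd _ hs)

/-! ### outer automorphisms -/

/-- the `3`-subgroups of `Out S` are cyclic -/
def OC3 (S : Type u) [Group S] : Prop := ∀ X : Subgroup (Out S), IsPGroup 3 ↥X → IsCyclic ↥X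

/-- a Sylow `3`-subgroup has a commutative image of exponent `3` with at least `n` elements -/
def Big (n : ℕ) (S : Type u) [Group S] : Prop :=
  ∃ (U : Sylow 3 S) (Z : Type) (_ : CommGroup Z) (π : ↥(U : Subgroup S) →* Z), (∀ z : Z, z ^ 3 = 1) ∧
    n ≤ Nat.card π.range

/-- transport of the outer automorphism group -/
noncomputable def outCongr {S : Type u} {T : Type v} [Group S] [Group T] (e : S ≃* T) : Out S ≃* Out T :=
  QuotientGroup.congr (Inn S) (Inn T) (MulAut.congr e) (by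
    ext σ
    constructor
    · rintro ⟨_, ⟨s, rfl⟩, rfl⟩
      exact ⟨e s, (congr_conj e s).symm⟩
    · rintro ⟨t, rfl⟩
      obtain ⟨s, rfl⟩ := e.surjective t
      exact ⟨_, ⟨s, rfl⟩, congr_conj e s⟩)

theorem card_out_congr {S : Type u} {T : Type v} [Group S] [Group T] (e : S ≃* T) :
    Nat.card (Out S) = Nat.card (Out T) := Nat.card_congr (outCongr e).toEquiv

theorem OC3.congr {S : Type u} {T : Type v} [Group S] [Group T] (e : S ≃* T) (h : OC3 T) : OC3 S := fun X hX =>
  have := h _ (hX.map (outCongr e).toMonoidHom)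
  isCyclic_of_surjective _ (X.equivMapOfInjective (outCongr e).toMonoidHom (outCongr e).injective).symm.surjective

theorem oc3_of_cyclic {S : Type u} [Group S] (h : IsCyclic (Out S)) : OC3 S := fun _ _ => inferInstance

/-- a normal subgroup of order prime to `3`, a cyclic subgroup, and an index prime to `3` -/
theorem oc3_of {S : Type u} [Group S] [Finite S] (D C : Subgroup (Out S)) [D.Normal] (hD : ¬ 3 ∣ Nat.card D)
    (hC : IsCyclic C) [hn : (D ⊔ C).Normal] (hi : ¬ 3 ∣ (D ⊔ C).index) : OC3 S := by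
  intro X hX
  have : Fact (Nat.Prime 3) := ⟨Nat.prime_three⟩
  have key : ∀ (K : Subgroup (Out S)) (n : ℕ), ¬ 3 ∣ n → ∀ x ∈ X, x ^ n ∈ K → x ∈ K := fun K n hn x hx h => by
    obtain ⟨j, hj⟩ := hX ⟨x, hx⟩
    have h1 : orderOf x ∣ 3 ^ j := orderOf_dvd_of_pow_eq_one (congrArg Subtype.val hj)
    obtain ⟨m, hm⟩ := exists_pow_eq_self_of_coprime (x := x) (n := n)
      ((((Nat.Prime.coprime_iff_not_dvd Nat.prime_three).2 hn).symm.pow_right j).coprime_dvd_right h1)
    exact hm ▸ pow_mem h m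
  have h1 : X.map (QuotientGroup.mk' D) ≤ C.map (QuotientGroup.mk' D) := by
    refine (map_mono fun x hx => key (D ⊔ C) _ hi x hx (pow_index_mem _ x)).trans ?_
    rw [Subgroup.map_sup, (map_eq_bot_iff D).2 (by rw [QuotientGroup.ker_mk']), bot_sup_eq]
  have h2 : IsCyclic (C.map (QuotientGroup.mk' D)) := isCyclic_of_surjective _ ((QuotientGroup.mk' D).subgroupMap_surjective C)
  refine isCyclic_of_injective ((inclusion h1).comp ((QuotientGroup.mk' D).subgroupMap X)) ?_
  rw [injective_iff_map_eq_one]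
  intro x hx
  have h3 : (x : Out S) ∈ D := (QuotientGroup.eq_one_iff _).1 (congrArg Subtype.val hx)
  exact Subtype.ext (mem_bot.1 (key ⊥ _ hD _ x.2 (congrArg Subtype.val (pow_card_eq_one' (x := (⟨_, h3⟩ : D))))))

theorem Big.mono {m n : ℕ} {S : Type u} [Group S] (h : Big n S) (hmn : m ≤ n) : Big m S := by
  obtain ⟨U, Z, _, π, h1, h2⟩ := h
  exact ⟨U, Z, _, π, h1, hmn.trans h2⟩

section AS

variable {M : Ideal AlgInt} {A : Type u} [Group A] [Finite A] {N : Subgroup A} [hN : N.Normal]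

/-- the outer automorphism induced by an element -/
def outHom (N : Subgroup A) [N.Normal] : A →* Out ↥N := (QuotientGroup.mk' (Inn ↥N)).comp MulAut.conjNormal

theorem outHom_ker (hc : centralizer (N : Set A) = ⊥) : (outHom N).ker = N := by
  ext g
  refine (QuotientGroup.eq_one_iff _).trans ⟨fun ⟨t, ht⟩ => by_contra fun hg => conjNormal_ne_conj hc hg t ht.symm,
    fun hg => ⟨⟨g, hg⟩, (conjNormal_coe ⟨g, hg⟩).symm⟩⟩

theorem index_dvd_out (hc : centralizer (N : Set A) = ⊥) : N.index ∣ Nat.card (Out ↥N) := by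
  conv_lhs => rw [← outHom_ker hc, index_ker]
  exact card_subgroup_dvd_card _

theorem ge_of_pow {P : Sylow 3 A} (h : 9 < nab P) : 27 ≤ nab P := by
  obtain ⟨k, hk⟩ := nab_pow P
  rw [hk] at h ⊢
  exact Nat.pow_le_pow_right (by norm_num : 0 < 3) (show 2 < k from (Nat.pow_lt_pow_iff_right (by norm_num : 1 < 3)).1 h)

/-- the lower bound of the abelianization -/
theorem exists_nab (hc : centralizer (N : Set A) = ⊥) (ho : OC3 ↥N) {n : ℕ} (hb : Big n ↥N) (P : Sylow 3 A) :
    ∃ a c : ℕ, 3 ^ a ∣ N.index ∧ n ≤ c ^ 3 ^ a ∧ 3 ^ a * c ≤ nab P := by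
  have : Fact (Nat.Prime 3) := ⟨Nat.prime_three⟩
  obtain ⟨U, Z, _, π, h1, h2⟩ := hb
  obtain ⟨Q, hQ⟩ := U.exists_comap_subtype_eq
  rw [nab_eq P Q]
  have hk : ((outHom N).comp (Q : Subgroup A).subtype).ker = N.subgroupOf Q := by
    rw [← MonoidHom.comap_ker, outHom_ker hc]
    rfl
  have hcyc : IsCyclic (↥(Q : Subgroup A) ⧸ N.subgroupOf Q) := by
    have h3 := ho _ (Q.isPGroup'.of_surjective _ ((outHom N).comp (Q : Subgroup A).subtype).rangeRestrict_surjective)
    exact isCyclic_of_surjective _ ((QuotientGroup.quotientKerEquivRange _).symm.trans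
      (QuotientGroup.quotientMulEquivOfEq hk)).surjective
  obtain ⟨a, ha⟩ := Q.isPGroup'.index (N.subgroupOf Q)
  let e : ↥(N.subgroupOf Q) →* ↥(U : Subgroup ↥N) :=
    { toFun := fun x => ⟨⟨x.1.1, x.2⟩, by rw [← hQ]; exact x.1.2⟩
      map_one' := rfl
      map_mul' := fun _ _ => rfl }
  have he : Function.Surjective e := fun y => ⟨⟨⟨y.1.1, hQ.ge y.2⟩, y.1.2⟩, rfl⟩
  obtain ⟨c, h3, h4⟩ := key (N.subgroupOf Q) h1 (π.comp e) hcyc ha
  refine ⟨a, c, ha ▸ relIndex_dvd_index_of_normal N Q, h2.trans (le_trans (le_of_eq ?_) h3), h4⟩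
  rw [MonoidHom.range_comp, MonoidHom.range_eq_top.2 he, ← MonoidHom.range_eq_map]

theorem nab_ge (hc : centralizer (N : Set A) = ⊥) (ho : OC3 ↥N) (hb : Big 81 ↥N) (P : Sylow 3 A) : 27 ≤ nab P := by
  obtain ⟨a, c, -, h1, h2⟩ := exists_nab hc ho hb P
  refine ge_of_pow (lt_of_lt_of_le ?_ h2)
  by_contra h
  have h3 : 0 < 3 ^ a := by positivity
  rcases a with _ | _ | a
  · simp at h h1
    omega
  · have h4 : c ≤ 3 := by omega
    exact absurd (h1.trans (Nat.pow_le_pow_left h4 _)) (by norm_num)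
  · have h4 : c ≤ 1 := by
      rw [pow_succ, pow_succ] at h
      have : 0 < 3 ^ a := by positivity
      nlinarith
    exact absurd (h1.trans (Nat.pow_le_pow_left h4 _)) (by norm_num)

theorem nab_ge' (h3 : ¬ 3 ∣ N.index) {n : ℕ} (hb : Big n ↥N) (P : Sylow 3 A) : n ≤ nab P := by
  obtain ⟨U, Z, _, π, -, h2⟩ := hb
  rw [← nab_sub h3 P U]
  rw [← index_ker] at h2
  exact h2.trans (index_antitone (Abelianization.commutator_subset_ker π))

/-- ten members by counting -/
theorem ten_le_of_count (hM : IsPModular 3 M) (h3 : ¬ 3 ∣ N.index) (h : 8 * N.index + 1 < k0 M ↥N) : 10 ≤ k0 M A := by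
  obtain ⟨r, h1, h2⟩ := orb_mass hM h3 (K := N) fun θ _ => le_stab θ
  have h4 := Res.one_le_cc hM h3 (mem_triv (S := ↥N) hM)
  have h5 : 8 < r := by
    by_contra h5
    have := Nat.mul_le_mul_left N.index (not_lt.1 h5)
    omega
  omega

end AS

/-! ### the rows -/

/-- what is needed about a simple group in the generic case -/
structure Std (M : Ideal AlgInt) (S : Type) [Group S] : Prop where
  oc : OC3 S
  big : Big 81 S ∨ (Big 27 S ∧ ¬ 3 ∣ Nat.card (Out S))
  cnt : 8 * Nat.card (Out S) + 1 < k0 M S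
  p4 : P4 M S
  inv : ∀ X : Subgroup (MulAut S), IsPGroup 3 ↥X → InvA M X

theorem row_of {K : Fam} (h : ∀ M : Ideal AlgInt, IsPModular 3 M → ∀ (S : Type) [Group S] [Finite S], IsSimpleGroup S →
    ¬ IsMulCommutative S → 3 ∣ Nat.card S → K S → Std M S) : Row K where
  up M hM A _ _ N hA hK P hP := by
    have := hA.normal
    have s := h M hM ↥N hA.simple hA.nonab hA.three hK
    rcases s.big with h1 | ⟨h1, h2⟩
    · exact absurd (nab_ge hA.cent s.oc h1 P) (by omega)
    · exact absurd (nab_ge' (fun h3 => h2 (h3.trans (index_dvd_out hA.cent))) h1 P) (by omega)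
  lo M hM A _ _ N hA hK hi P _ := by
    have := hA.normal
    have s := h M hM ↥N hA.simple hA.nonab hA.three hK
    rcases hi with hi | hi
    · have h1 := Nat.le_of_dvd Nat.card_pos (index_dvd_out hA.cent)
      exact ten_le_of_count hM hi (lt_of_le_of_lt (by omega) s.cnt)
    · exact le_trans (by norm_num) (twelve_le hM hA.cent hi s.p4)
  two M hM S _ _ h1 h2 h3 h4 := ((h M hM S h1 h2 h3 h4).inv ⊥ IsPGroup.of_bot).two
  inv M hM S _ _ h1 h2 h3 h4 X hX := .inl ((h M hM S h1 h2 h3 h4).inv X hX)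

end Cfsg.Agent.KZ.Ch3X
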