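import Cfsg.Agent.KZ.Ch3X.Gen
import Cfsg.Agent.KZ.RedB.Gen
import Cfsg.Agent.KZ.Lie.Iface
import Cfsg.Agent.ODD.C2.HN2Gen

/-!
# KZ, defining characteristic `3`: labels (helper3)

* `Cj D c c'`: conjugate labels; `card_fix_ge`; `card_cls_ge`;
* `Em D Adm S`: `S` is a normal subgroup of `G ^ F` with all automorphisms lifted; `Em.L`: the labels of a character of `S`;
* `Em.big`, `Em.cnt`, `Em.fam`.
-/

set_option autoImplicit false
set_option linter.unusedSectionVars false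
set_option maxHeartbeats 400000

namespace Cfsg.Agent.KZ.Ch3X

open Cfsg Cfsg.Agent.KZ.Tool Cfsg.Agent.KZ.Red Cfsg.Agent.KZ.Res Cfsg.Agent.DL Cfsg.Agent.DL.PP Cfsg.Agent.DL.Uni
  Cfsg.Agent.DL.Asm Cfsg.Agent.DL.St Cfsg.Agent.Nodes.Reps Cfsg.Agent.Tits.Roots Cfsg.Agent.ODD.C2 Matrix

theorem card_fix_ge {I : Type} [Fintype I] [DecidableEq I] {p : ℕ} [Fact p.Prime] {k : Type} [Field k] [CharP k p]
    [IsAlgClosed k] (σ : Equiv.Perm I) (f : I → ℕ) (h : ∀ x, ∃ i, σ.SameCycle x i ∧ f i ≠ 0) :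
    ∏ i, p ^ f i ≤ Nat.card {b : I → k // ∀ i, b (σ i) = b i ^ p ^ f i} := by
  classical
  have hfin := (card_fix_le (p := p) (k := k) σ f h).1
  let q : I → Quotient (Equiv.Perm.SameCycle.setoid σ) := Quotient.mk _
  have := Fintype.ofFinite (Quotient (Equiv.Perm.SameCycle.setoid σ))
  let E : Quotient (Equiv.Perm.SameCycle.setoid σ) → ℕ := fun o => ∑ i with σ.SameCycle o.out i, f i
  have hE : ∀ o, 0 < E o := fun o => by
    obtain ⟨i, h1, h2⟩ := h o.out
    exact Finset.sum_pos' (fun _ _ => Nat.zero_le _) ⟨i, Finset.mem_filter.2 ⟨Finset.mem_univ _, h1⟩, Nat.pos_of_ne_zero h2⟩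
  have hper : ∀ x, 0 < Function.minimalPeriod σ x := fun x =>
    Function.minimalPeriod_pos_of_mem_periodicPts (σ.injective.mem_periodicPts x)
  have h0 : ∀ i, ∃ m, m < Function.minimalPeriod σ (q i).out ∧ σ^[m] (q i).out = i := fun i => by
    obtain ⟨m, -, hm⟩ := (Quotient.exact (q i).out_eq : σ.SameCycle _ i).exists_pow_eq'
    exact ⟨m % _, Nat.mod_lt _ (hper _), by rw [Function.iterate_mod_minimalPeriod_eq, ← Equiv.Perm.coe_pow, hm]⟩
  choose m hm hm' using h0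
  have hq : ∀ i, q (σ i) = q i := fun i => Quotient.sound ⟨-1, by simp⟩
  have hu : ∀ i j, j < Function.minimalPeriod σ (q i).out → σ^[j] (q i).out = i → m i = j := fun i j h1 h2 =>
    Function.iterate_injOn_Iio_minimalPeriod (hm i) h1 ((hm' i).trans h2.symm)
  let φ : (∀ o, {a : k // a ^ p ^ E o = a}) → {b : I → k // ∀ i, b (σ i) = b i ^ p ^ f i} := fun a =>
    ⟨fun i => (a (q i) : k) ^ p ^ ∑ j ∈ Finset.range (m i), f (σ^[j] (q i).out), fun i => by
      have h1 : σ^[m i + 1] (q i).out = σ i := by rw [Function.iterate_succ_apply', hm']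
      have h2 : ∑ j ∈ Finset.range (m i), f (σ^[j] (q i).out) + f i =
          ∑ j ∈ Finset.range (m i + 1), f (σ^[j] (q i).out) := by rw [Finset.sum_range_succ, hm']
      beta_reduce
      rw [← pow_mul, ← pow_add, h2]
      rcases (Nat.succ_le_of_lt (hm i)).lt_or_eq with h3 | h3
      · rw [hu (σ i) (m i + 1) (by rwa [hq]) (by rwa [hq]), hq]
      · rw [hu (σ i) 0 (hper _) (by rw [hq, ← h1, show m i + 1 = _ from h3, Function.iterate_minimalPeriod]; rfl), hq,
          show m i + 1 = _ from h3, sum_cycle, Finset.sum_range_zero, pow_zero, pow_one]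
        exact (a _).2.symm⟩
  have h2 : Function.Injective φ := fun a a' e => funext fun o => Subtype.ext (by
    have h3 : q o.out = o := o.out_eq
    have h4 := congrFun (congrArg Subtype.val e) o.out
    simp only [φ] at h4
    rw [hu o.out 0 (hper _) (by rw [h3]; rfl), Finset.sum_range_zero, pow_zero, pow_one, pow_one, h3] at h4
    exact h4)
  refine le_trans (le_of_eq ?_) (Nat.card_le_card_of_injective φ h2)
  rw [Nat.card_pi, Finset.prod_congr rfl fun o _ => card_pow_eq (hE o), Finset.prod_pow_eq_pow_sum,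
    Finset.prod_pow_eq_pow_sum, ← Finset.sum_fiberwise Finset.univ q]
  congr 1
  refine Finset.sum_congr rfl fun o _ => Finset.sum_congr (Finset.filter_congr fun i _ => ?_) fun _ _ => rfl
  exact ⟨fun h => Quotient.exact (o.out_eq.trans h.symm), fun h => by rw [← o.out_eq]; exact Quotient.sound h.symm⟩

theorem fixes_of_coprime {S : Type} [Group S] {σ : MulAut S} {θ : IrrCharacter S} {a b : ℕ} (h : a.Coprime b)
    (ha : Fixes (σ ^ a) θ) (hb : Fixes (σ ^ b) θ) : Fixes σ θ := by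
  let K : Subgroup (MulAut S) :=
    { carrier := {τ | Fixes τ θ}
      one_mem' := fixes_one θ
      mul_mem' := fixes_mul
      inv_mem' := fixes_inv }
  have h1 : σ = (σ ^ a) ^ Nat.gcdA a b * (σ ^ b) ^ Nat.gcdB a b := by
    rw [← zpow_natCast, ← zpow_natCast, ← _root_.zpow_mul, ← _root_.zpow_mul, ← _root_.zpow_add, ← Nat.gcd_eq_gcd_ab, h,
      Nat.cast_one, zpow_one]
  exact h1 ▸ K.mul_mem (K.zpow_mem ha _) (K.zpow_mem hb _)

/-- three members which are pairwise apart -/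
theorem invA_of_three {M : Ideal AlgInt} {S : Type} [Group S] [Finite S] {X : Subgroup (MulAut S)}
    (θ : Fin 3 → IrrCharacter S) (hm : ∀ i, Mem M (θ i)) (ha : ∀ i j, i ≠ j → Apart (θ i) (θ j))
    (hf : ∀ σ ∈ X, ∀ i, Fixes σ (θ i)) : InvA M X := by
  have hne : ∀ i j, i ≠ j → θ i = triv S → Nontriv (θ j) := fun i j h e => nontriv_iff.2 fun e' =>
    apart3_ne (apart3_of_apart (ha i j h)) (e.trans e'.symm)
  by_cases h0 : θ 0 = triv S
  · exact ⟨θ 1, θ 2, hm _, hm _, hne 0 1 (by decide) h0, hne 0 2 (by decide) h0, ha _ _ (by decide),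
      fun σ h => ⟨hf σ h _, hf σ h _⟩⟩
  by_cases h1 : θ 1 = triv S
  · exact ⟨θ 0, θ 2, hm _, hm _, nontriv_iff.2 h0, hne 1 2 (by decide) h1, ha _ _ (by decide),
      fun σ h => ⟨hf σ h _, hf σ h _⟩⟩
  · exact ⟨θ 0, θ 1, hm _, hm _, nontriv_iff.2 h0, nontriv_iff.2 h1, ha _ _ (by decide), fun σ h => ⟨hf σ h _, hf σ h _⟩⟩

section Gen

variable {p : ℕ} [Fact p.Prime] {k : Type} [Field k] [CharP k p] {Y : Type} [Group Y] {N : Type} [Fintype N]
  [DecidableEq N] {ρ : Y →* GL N k} {F : MulAut Y} {G : Subgroup Y} [IsAlgClosed k] (D : Datum p ρ F G)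

/-- conjugate labels -/
def Cj (c c' : D.R → ℂˣ) : Prop := ∃ u, Rel D u c c'

variable {D} {c c' c'' : D.R → ℂˣ} {A B : Matrix D.R D.R ℤ}

theorem rel_iff {u : D.W} : Rel D u c c' ↔ mon (D.Wm u)ᵀ c' = c :=
  ⟨fun h => eq_of_chr D fun v => by rw [chr_tr, h], fun h v => by rw [← chr_tr, h]⟩

theorem Cj.refl (c : D.R → ℂˣ) : Cj D c c := ⟨1, rel_one D c⟩

theorem Cj.symm (h : Cj D c c') : Cj D c' c := h.elim fun _ h => ⟨_, h.symm⟩

theorem Cj.trans (h : Cj D c c') (h' : Cj D c' c'') : Cj D c c'' := h.elim fun _ h => h'.elim fun _ h' => ⟨_, h.trans h'⟩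

theorem Cj.pow (h : Cj D c c') (n : ℕ) : Cj D (c ^ n) (c' ^ n) :=
  h.elim fun u h => ⟨u, rel_iff.2 (by rw [map_pow, rel_iff.1 h])⟩

theorem Cj.orderOf_eq (h : Cj D c c') : orderOf c = orderOf c' :=
  have key : ∀ {a b : D.R → ℂˣ}, Cj D a b → orderOf a ∣ orderOf b := fun ⟨_, h⟩ => rel_iff.1 h ▸ orderOf_map_dvd _ _
  Nat.dvd_antisymm (key h) (key h.symm)

theorem Cj.pow_pow {n : ℕ} (h : Cj D c (c ^ n)) (j : ℕ) : Cj D c (c ^ n ^ j) := by
  induction j with
  | zero => simpa using Cj.refl c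
  | succ j ih =>
    rw [pow_succ', pow_mul]
    exact ih.trans (h.pow _)

theorem mon_smul (n : ℕ) (B : Matrix D.R D.R ℤ) (c : D.R → ℂˣ) : mon ((n : ℤ) • B)ᵀ c = mon Bᵀ c ^ n := by
  rw [transpose_smul, mon_zsmul, zpow_natCast]

theorem Cj.smul {n : ℕ} (h : Cj D c (c ^ n)) (h' : Cj D c (mon Bᵀ c)) (j : ℕ) : Cj D c (mon ((n : ℤ) ^ j • B)ᵀ c) := by
  rw [← Nat.cast_pow, mon_smul]
  exact (h.pow_pow j).trans (h'.pow _)

theorem Cj.one (c : D.R → ℂˣ) : Cj D c (mon (1 : Matrix D.R D.R ℤ)ᵀ c) := by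
  rw [transpose_one, mon_one]
  exact Cj.refl c

theorem Cj.exists_fx (h : Cj D c (mon D.Mxᵀ c)) : ∃ w, Fx D w c := by
  obtain ⟨u, h⟩ := h
  exact ⟨D.Fw u, fun v => by rw [← D.Mx_Wm, ← mulVec_mulVec, ← chr_tr, h]⟩

/-- the order of a label which is fixed by a power of `A` -/
theorem Cj.orderOf_mon {n : ℕ} (hn : n ≠ 0) (h : Cj D c (mon (A ^ n)ᵀ c)) : orderOf (mon Aᵀ c) = orderOf c := by
  obtain ⟨n, rfl⟩ := Nat.exists_eq_succ_of_ne_zero hn
  refine Nat.dvd_antisymm (orderOf_map_dvd _ _) ?_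
  rw [h.orderOf_eq, pow_succ', transpose_mul, mon_mul]
  exact orderOf_map_dvd _ _

/-- the number of stable classes for an adjoint datum -/
theorem card_cls_ge (h : D.QS) (h1 : (D.Mx - 1).det.natAbs = (Psi D - 1).det.natAbs) :
    ∏ i, p ^ D.ex (sr i) ≤ Nat.card (Quotient (clsSetoid D)) := by
  have := Fintype.ofFinite D.W
  have h2 := card_le_sum h
  have h3 : 0 < (Psi D - 1).det.natAbs := Int.natAbs_pos.2 fun e => det_Psi_sub_one h (by rw [e, Int.cast_zero])
  rw [← card_cls, h1] at h2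
  refine Nat.le_of_mul_le_mul_left (le_trans (le_of_eq ?_) (h2.trans (le_of_eq ?_))) (mul_pos (Fintype.card_pos (α := D.W)) h3) <;> ring

theorem finite_cls : Finite (Quotient (clsSetoid D)) := by
  have := fun w => finite_Fx D w
  have : Finite {c : D.R → ℂˣ // ∃ w, Fx D w c} :=
    Finite.of_surjective (fun x : Σ w, {c : D.R → ℂˣ // Fx D w c} => ⟨x.2.1, x.1, x.2.2⟩) fun ⟨c, w, h⟩ => ⟨⟨w, c, h⟩, rfl⟩
  infer_instance

variable (D) in
/-- `S` is a normal subgroup of `G ^ F` and all automorphisms of `S` are lifted. -/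
structure Em (Adm : Matrix D.R D.R ℤ → Prop) (S : Type) [Group S] where
  j : S →* ↥(GF F G)
  inj : Function.Injective j
  normal : j.range.Normal
  cop : ¬ p ∣ j.range.index
  aut : ∀ σ : MulAut S, ∃ (g : ↥(GF F G)) (α : MulAut Y) (A : Matrix D.R D.R ℤ) (h : Au D α A), Adm A ∧
    ∀ s, j (σ s) = g * h.aut (j s) * g⁻¹

/-- the simple coordinates take at least `∏ p ^ ex` values -/
theorem le_card_kap (h : D.QS) : ∏ i, p ^ D.ex (sr i) ≤ Nat.card (hn2Kap D).range := by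
  have := D.amb.finite_GF G
  have : Finite ↥(D.U ⊓ GF F G) := Finite.of_injective _ (Subgroup.inclusion_injective inf_le_right)
  have : Finite (hn2Kap D).range := Finite.of_surjective _ (hn2Kap D).rangeRestrict_surjective
  obtain ⟨a, ha⟩ := exists_fix_unit h
  choose u hu h2 using fun b : {b : D.I → k // ∀ i, b (D.σ i) = b i ^ p ^ D.ex (sr i)} =>
    exists_kap_fix h (a := fun i => (a i : k) * b.1 i) fun i => by
      rw [ha, b.2, Units.val_mul, Units.val_pow_eq_pow_val, mul_pow, mul_assoc]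
  refine (card_fix_ge (k := k) D.σ (fun i => D.ex (sr i)) (exists_ex h)).trans
    (Nat.card_le_card_of_injective (fun b => ⟨_, ⟨u b, hu b⟩, rfl⟩) fun b b' e => Subtype.ext (funext fun i => ?_))
  have h3 : kap D i (u b) = kap D i (u b') := congrFun (Multiplicative.ofAdd.injective (congrArg Subtype.val e)) i
  rw [h2, h2] at h3
  exact mul_left_cancel₀ (a i).ne_zero h3

end Gen

section Three

variable {k : Type} [Field k] [CharP k 3] {Y : Type} [Group Y] {N : Type} [Fintype N]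
  [DecidableEq N] {ρ : Y →* GL N k} {F : MulAut Y} {G : Subgroup Y} [IsAlgClosed k] {D : Datum 3 ρ F G}
  {Adm : Matrix D.R D.R ℤ → Prop} {S : Type} [Group S] (E : Em D Adm S)

namespace Em

include E in
theorem finite : Finite S :=
  have := D.amb.finite_GF G
  Finite.of_injective _ E.inj

/-- the isomorphism onto the image -/
noncomputable def e : S ≃* ↥E.j.range := MonoidHom.ofInjective E.inj

include E in
theorem exists_equiv (h : D.QS) (P : Sylow 3 S) : Nonempty (↥(P : Subgroup S) ≃* ↥(D.U ⊓ GF F G)) := by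
  have := D.amb.finite_GF G
  have := E.finite
  have := E.normal
  have e1 := Subgroup.subgroupOfEquivOfLe (inf_le_right : D.U ⊓ GF F G ≤ GF F G)
  let Q : Sylow 3 ↥(GF F G) := Sylow.ofCard ((D.U ⊓ GF F G).subgroupOf (GF F G)) (by
    rw [Nat.card_congr e1.toEquiv,
      card_U D.sbn (aut_qs h) (fun _ => mem_GF) D.isPGroup_U (fun _ => eq_one_of_pow D) (move h)])
  have h1 := sylow_le_of_index E.cop Q
  exact ⟨(Sylow.equiv P ((Q.subtype h1).mapSurjective (f := E.e.symm.toMonoidHom) E.e.symm.surjective)).trans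
    ((Subgroup.equivMapOfInjective _ E.e.symm.toMonoidHom E.e.symm.injective).symm.trans
      ((Subgroup.subgroupOfEquivOfLe h1).trans e1))⟩

include E in
theorem big (h : D.QS) : Big (∏ i, 3 ^ D.ex (sr i)) S := by
  obtain ⟨P⟩ : Nonempty (Sylow 3 S) := inferInstance
  obtain ⟨e⟩ := E.exists_equiv h P
  refine ⟨P, _, _, (hn2Kap D).comp e.toMonoidHom, fun z => ?_, ?_⟩
  · refine Multiplicative.toAdd.injective (funext fun i => ?_)
    rw [toAdd_pow, Pi.smul_apply, nsmul_eq_mul, CharP.cast_eq_zero, zero_mul]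
    rfl
  · rw [MonoidHom.range_comp, MonoidHom.range_eq_top.2 e.surjective, ← MonoidHom.range_eq_map]
    exact le_card_kap h

include E in
/-- `HN` from a bound for the abelianization -/
theorem hn (h : D.QS) (P : Sylow 3 S) (hP : nab P ≤ ∏ i, 3 ^ D.ex (sr i)) : HN D := by
  obtain ⟨e⟩ := E.exists_equiv h P
  refine hn_of_card D h (le_trans ?_ (hP.trans (card_fix_ge (k := k) D.σ (fun i => D.ex (sr i)) (exists_ex h))))
  exact (index_comm_congr e).ge

variable [Fintype ↥(GF F G)] (f : Lie.Fr D) {ψ : IrrCharacter S} {c c' : D.R → ℂˣ}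

/-- `ψ` lies under the character with the label `c` -/
def L (ψ : IrrCharacter S) (c : D.R → ℂˣ) : Prop :=
  ∃ χ : IrrCharacter ↥(GF F G), ¬ 3 ∣ charDegree (χ : ↥(GF F G) → ℂ) ∧ Lb D f.d f.ζ χ c ∧
    Over E.j.range χ (tr E.e.symm ψ)

variable {E f}

theorem L.deg (h : E.L f ψ c) : ¬ 3 ∣ charDegree (ψ : S → ℂ) := by
  have := E.normal
  obtain ⟨χ, h1, -, h2⟩ := h
  exact fun h3 => h1 ((h3.trans (deg_eq (χ := ψ) (ψ := tr E.e.symm ψ) (by rw [tr_apply, map_one])).dvd).trans (over_dvd h2).1)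

theorem L.of_cj (h : E.L f ψ c) (h' : Cj D c c') : E.L f ψ c' := by
  obtain ⟨χ, h1, h2, h3⟩ := h
  exact h'.elim fun _ h' => ⟨χ, h1, h2.of_rel h', h3⟩

variable (E f) in
theorem exists_L (hZ : CZ D) (h : ∃ w, Fx D w c) : ∃ ψ, E.L f ψ c := by
  obtain ⟨w, h⟩ := h
  obtain ⟨χ, h1, h2, h3⟩ := exists_of_fx f.L f.hζ hZ h
  obtain ⟨θ, h4⟩ := exists_under E.j.range ⟨χ, h1⟩
  refine ⟨tr E.e θ, ⟨χ, h1⟩, h2, h3, ?_⟩
  rwa [show tr E.e.symm (tr E.e θ) = θ from Subtype.ext (funext fun x => by simp [tr_apply])]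

/-- the number of labels of a character -/
theorem card_lab_le {ι : Type} [Finite ι] (c : ι → D.R → ℂˣ) (hc : ∀ i j, Cj D (c i) (c j) → i = j)
    (h : ∀ i, E.L f ψ (c i)) : Nat.card ι ≤ E.j.range.index := by
  have := E.normal
  have := Characters.Core.finite_irr (G := ↥(GF F G))
  choose χ h1 h2 h3 using h
  refine (Nat.card_le_card_of_injective (fun i => (⟨χ i, h3 i⟩ : {χ // Over E.j.range χ (tr E.e.symm ψ)}))
    fun i j e => hc i j ?_).trans ((card_over_le _).trans ((card_conj_le _).trans ?_))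
  · have e' : χ i = χ j := congrArg Subtype.val e
    exact Lb.rel f.L f.hζ (χ i).2 (h2 i) (e' ▸ h2 j)
  · exact Nat.le_of_dvd (Nat.pos_of_ne_zero Subgroup.index_ne_zero_of_finite) (Subgroup.relIndex_dvd_index_of_normal _ _)

theorem L.lift {σ : MulAut S} {g : ↥(GF F G)} {α : MulAut Y} {A : Matrix D.R D.R ℤ} (hA : Au D α A)
    (h2 : ∀ s, E.j (σ s) = g * hA.aut (E.j s) * g⁻¹) (h : E.L f ψ c) : E.L f (tr σ ψ) (mon Aᵀ c) := by
  obtain ⟨χ, h3, h4, h5⟩ := h
  have := Fintype.ofFinite ↥E.j.range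
  refine ⟨tr hA.aut χ, by rwa [deg_eq (χ := tr hA.aut χ) (ψ := χ) (by rw [tr_apply, map_one])], h4.aut hA, ?_⟩
  rw [Res.over_iff] at h5 ⊢
  rw [← Characters.Clifford.classInner_comp_mulEquiv (MulAut.congr E.e σ)] at h5
  convert h5 using 2 <;> funext x <;> obtain ⟨s, rfl⟩ := E.e.surjective x
  · have h6 : ((MulAut.congr E.e σ (E.e s) : ↥E.j.range) : ↥(GF F G)) = E.j (σ s) := by
      simp only [MulAut.congr_apply, MulEquiv.trans_apply, MulEquiv.symm_apply_apply]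
      rfl
    rw [Function.comp_apply, h6, h2, Blocks.Basic.irr_conj χ.2]
    rfl
  · simp [tr_apply]

variable (E f) in
/-- the action of the automorphisms -/
theorem L_aut (σ : MulAut S) : ∃ A, Adm A ∧ ∀ n ψ c, E.L f ψ c → E.L f (tr (σ ^ n : MulAut S) ψ) (mon (A ^ n)ᵀ c) := by
  obtain ⟨g, α, A, hA, h1, h2⟩ := E.aut σ
  refine ⟨A, h1, fun n ψ c h => ?_⟩
  induction n with
  | zero => rwa [pow_zero A, transpose_one, mon_one, show tr (σ ^ 0 : MulAut S) ψ = ψ from Subtype.ext (funext fun _ => rfl)]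
  | succ n ih =>
    rw [pow_succ A, transpose_mul, mon_mul, show tr (σ ^ (n + 1) : MulAut S) ψ = tr σ (tr (σ ^ n : MulAut S) ψ) from
      Subtype.ext (funext fun _ => by rw [pow_succ]; rfl)]
    exact ih.lift hA h2

variable (E) in
/-- the number of characters of degree prime to `3` -/
theorem cnt (hZ : CZ D) : Nat.card (Quotient (clsSetoid D)) ≤
    E.j.range.index * Nat.card {ψ : IrrCharacter S // ¬ 3 ∣ charDegree (ψ : S → ℂ)} := by
  classical
  obtain ⟨f⟩ := Lie.nonempty_fr D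
  have := E.finite
  have := Characters.Core.finite_irr (G := S)
  have := finite_cls (D := D)
  have := Fintype.ofFinite (Quotient (clsSetoid D))
  have := Fintype.ofFinite {ψ : IrrCharacter S // ¬ 3 ∣ charDegree (ψ : S → ℂ)}
  choose ψ hψ using fun ω : Quotient (clsSetoid D) => E.exists_L f hZ ω.out.2
  rw [Nat.card_eq_fintype_card, Nat.card_eq_fintype_card]
  refine Finset.card_le_mul_card_image_of_maps_to (f := fun ω => ⟨ψ ω, (hψ ω).deg⟩) (fun _ _ => Finset.mem_univ _) _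
    fun a _ => ?_
  rw [← Nat.card_eq_finsetCard]
  refine card_lab_le (f := f) (ψ := a.1) (fun ω => ω.1.out.1) (fun ω ω' h => Subtype.ext (Quotient.out_equiv_out.1 h))
    fun ω => ?_
  have h1 : ψ ω.1 = a.1 := congrArg Subtype.val (Finset.mem_filter.1 ω.2).2
  exact h1 ▸ hψ ω.1

theorem L.cj (h1 : E.j.range.index = 1) (h : E.L f ψ c) (h' : E.L f ψ c') : Cj D c c' := by
  by_contra h2
  have h3 := card_lab_le (f := f) (ψ := ψ) ![c, c'] (fun i j => by
    fin_cases i <;> fin_cases j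
    · exact fun _ => rfl
    · exact fun h => absurd h h2
    · exact fun h => absurd h.symm h2
    · exact fun _ => rfl) fun i => by fin_cases i <;> assumption
  rw [h1, Nat.card_fin] at h3
  omega

variable (h : D.QS) (hZ : CZ D) (hN : HN D)
include h hZ hN

variable (E f) in
theorem exists_lab {M : Ideal AlgInt} (hM : IsPModular 3 M) (hψ : Mem M ψ) : ∃ c, E.L f ψ c := by
  have := E.normal
  obtain ⟨χ, h1, h2⟩ := exists_over hM E.cop ((mem_tr hM E.e.symm).2 hψ)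
  obtain ⟨c, h3⟩ := exists_lb f.L f.hζ h hZ hN χ.2 h1.2
  exact ⟨c, χ, h1.2, h3, h2⟩

theorem L.eq (h1 : E.j.range.index = 1) {ψ' : IrrCharacter S} (h0 : E.L f ψ c) (h0' : E.L f ψ' c) : ψ = ψ' := by
  have := E.normal
  obtain ⟨χ', a1, a2, a3⟩ := h0'
  obtain ⟨χ, b1, b2, b3⟩ := h0
  rw [show χ' = χ from Subtype.ext (Lb.eq f.L f.hζ h hZ hN χ'.2 a1 χ.2 b1 a2 b2)] at a3
  obtain ⟨g, hg⟩ := gconj_iff.1 (Res.gconj_of_over b3 a3)
  rw [cj_of_mem (Subgroup.index_eq_one.1 h1 ▸ Subgroup.mem_top g)] at hg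
  exact (tr E.e.symm).injective hg

variable (h2 : E.j.range.index ≤ 2)
include h2

theorem L.fixes {n : ℕ} (h0 : E.L f ψ c) (hc : ∀ A, Adm A → Cj D c (mon (A ^ n)ᵀ c)) (σ : MulAut S) :
    Fixes (σ ^ (2 * n)) ψ := by
  classical
  have := E.normal
  obtain ⟨A, h1, h3⟩ := E.L_aut f σ
  have h4 : ∀ ψ, E.L f ψ c → E.L f (tr (σ ^ n : MulAut S) ψ) c := fun ψ h => (h3 n ψ c h).of_cj (hc A h1).symm
  have h5 : ∀ ψ', E.L f ψ' c → GConj E.j.range (tr E.e.symm ψ) (tr E.e.symm ψ') := by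
    rintro ψ' ⟨χ', a1, a2, a3⟩
    obtain ⟨χ, b1, b2, b3⟩ := h0
    rw [show χ' = χ from Subtype.ext (Lb.eq f.L f.hζ h hZ hN χ'.2 a1 χ.2 b1 a2 b2)] at a3
    exact Res.gconj_of_over b3 a3
  set τ : MulAut S := σ ^ n
  have h6 : tr τ (tr τ ψ) = ψ := by
    by_contra h6
    have h7 : tr τ ψ ≠ ψ := fun e => h6 (by rw [e, e])
    have h8 := card_orbit_le (le_stab (tr E.e.symm ψ)) (({ψ, tr τ ψ, tr τ (tr τ ψ)} : Finset _).image (tr E.e.symm))
      (by simpa using ⟨h5 _ h0, h5 _ (h4 _ h0), h5 _ (h4 _ (h4 _ h0))⟩)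
    rw [Finset.card_image_of_injective _ (tr E.e.symm).injective,
      Finset.card_eq_three.2 ⟨_, _, _, h7.symm, Ne.symm h6, fun e => h7 ((tr τ).injective e).symm, rfl⟩] at h8
    omega
  intro x
  rw [two_mul, pow_add]
  exact congrFun (congrArg Subtype.val h6) x

/-- a family of characters from a family of labels -/
theorem fam {ι : Type} [Fintype ι] (c : ι → D.R → ℂˣ) (hc : ∀ i j, orderOf (c i) = orderOf (c j) → i = j)
    (hF : ∀ i, Cj D (c i) (mon D.Mxᵀ (c i))) {n : ℕ} (hn : n ≠ 0)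
    (hA : ∀ A, Adm A → ∀ i, Cj D (c i) (mon (A ^ n)ᵀ (c i))) (m : ℕ) (hm : m * E.j.range.index < Fintype.card ι) :
    ∃ θ : Fin (m + 1) → IrrCharacter S, (∀ i, ¬ 3 ∣ charDegree (θ i : S → ℂ)) ∧ (∀ i j, i ≠ j → Apart (θ i) (θ j)) ∧
      ∀ (σ : MulAut S) i, Fixes (σ ^ (2 * n)) (θ i) := by
  obtain ⟨f⟩ := Lie.nonempty_fr D
  choose ψ hψ using fun i => E.exists_L f hZ (hF i).exists_fx
  obtain ⟨t, -, ht⟩ := RedB.exists_fam (fun i j => ¬ Apart (ψ j) (ψ i)) (fun i j h h' => h (apart_symm h')) Set.univ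
    E.j.range.index (fun i _ => by
      have h1 : ∀ j : ↥(Set.univ ∩ {j | ¬ Apart (ψ j) (ψ i)}), ∃ c', orderOf c' = orderOf (c j) ∧ E.L f (ψ i) c' := by
        rintro ⟨j, -, hj⟩
        obtain ⟨σ, hσ⟩ := not_forall.1 hj
        obtain ⟨A, h3, h4⟩ := E.L_aut f σ
        have h5 := h4 1 _ _ (hψ j)
        rw [pow_one, pow_one, show tr σ (ψ j) = ψ i from Subtype.ext (funext (not_not.1 hσ))] at h5
        exact ⟨_, (hA A h3 j).orderOf_mon hn, h5⟩
      choose c' h3 h4 using h1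
      exact card_lab_le c' (fun a b h => Subtype.ext (hc _ _ (by rw [← h3, ← h3, h.orderOf_eq]))) h4) m
    (by rwa [Set.ncard_univ, Nat.card_eq_fintype_card])
  exact ⟨fun i => ψ (t i), fun i => (hψ _).deg, fun i j hij => by_contra fun e => hij (ht j i e).symm,
    fun σ i => (hψ _).fixes h hZ hN h2 (fun A h3 => hA A h3 _) σ⟩

end Em

end Three

end Cfsg.Agent.KZ.Ch3X
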