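import Cfsg.Agent.KZ.Ch3X.Gen
import Cfsg.Agent.LieRecognition.ReeSylowThree

/-!
# KZ, the small Ree groups: the abelianization of the Sylow subgroups (helper3)

`mem_comm`, `nab_le`, `nab_le_nine`.
-/

set_option autoImplicit false
set_option linter.unusedSectionVars false
set_option maxHeartbeats 400000

namespace Cfsg.Agent.KZ.Ch3X

open Cfsg Cfsg.Agent.KZ.Res Cfsg.Agent.LieRecognition.ReeAbs Cfsg.Agent.LieRecognition.ReeSylowThree Subgroup
open scoped commutatorElement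

theorem nab_mul_le {G : Type} [Group G] [Finite G] (P : Sylow 3 G) {ι : Type} (f : ι → G) (hf : Function.Injective f)
    (h : ∀ i, f i ∈ ⁅(P : Subgroup G), (P : Subgroup G)⁆) : nab P * Nat.card ι ≤ Nat.card (P : Subgroup G) := by
  rw [← (_root_.commutator ↥(P : Subgroup G)).index_mul_card]
  refine Nat.mul_le_mul_left _ ?_
  rw [← card_map_of_injective (P : Subgroup G).subtype_injective, map_subtype_commutator]
  exact Nat.card_le_card_of_injective (fun i => ⟨f i, h i⟩) fun _ _ e => hf (congrArg Subtype.val e)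

theorem mem_comm_of {G : Type} [Group G] {P : Subgroup G} {a b c : G} (ha : a ∈ P) (hb : b ∈ P) (h : a * b = c * (b * a)) :
    c ∈ ⁅P, P⁆ := by
  rw [show c = ⁅a, b⁆ by rw [commutatorElement_def, h]; group]
  exact commutator_mem_commutator ha hb

theorem card_cube_le (K : Type) [Field K] : Nat.card {t : K // t ^ 3 = t} ≤ 3 := by
  refine (Nat.card_le_card_of_surjective (fun i : Fin 3 => (![⟨0, by ring⟩, ⟨1, by ring⟩, ⟨-1, by ring⟩] i :
    {t : K // t ^ 3 = t})) fun ⟨t, ht⟩ => ?_).trans (Nat.card_fin 3).le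
  have h : t * ((t - 1) * (t + 1)) = 0 := by linear_combination ht
  rcases mul_eq_zero.1 h with h | h
  · exact ⟨0, Subtype.ext h.symm⟩
  · rcases mul_eq_zero.1 h with h | h
    · exact ⟨1, Subtype.ext (sub_eq_zero.1 h).symm⟩
    · exact ⟨2, Subtype.ext (eq_neg_of_add_eq_zero_left h).symm⟩

variable {K : Type} [Field K] [Fintype K] {m : ℕ} {G : Type} [Group G] {U : K → K → K → G} {h : Kˣ → G} {n : G}
  (D : Data m U h n) (hK : Fintype.card K = 3 ^ (2 * m + 1))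

theorem U_mem (t u v : K) : U t u v ∈ uSub D := ⟨t, u, v, rfl⟩

include D in
theorem U_inj' : Function.Injective fun x : K × K × K => U x.1 x.2.1 x.2.2 := fun a b e => by
  obtain ⟨h1, h2, h3, -⟩ := D.inj₁ _ _ _ 1 _ _ _ 1 (congrArg (· * h 1) e)
  exact Prod.ext h1 (Prod.ext h2 h3)

include hK in
theorem exists_sylow [Finite G] : ∃ S : Sylow 3 G, (S : Subgroup G) = uSub D := by
  refine ⟨Sylow.ofCard (uSub D) ?_, rfl⟩
  rw [card_uSub, card_eq D, hK]
  have h3 : 3 ∣ 3 ^ (2 * m + 1) := dvd_pow_self 3 (by omega)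
  have h0 : 0 < 3 ^ (2 * m + 1) := by positivity
  have h1 : ¬ 3 ∣ (3 ^ (2 * m + 1) - 1) * ((3 ^ (2 * m + 1)) ^ 3 + 1) := by
    rw [Nat.prime_three.dvd_mul]
    have h4 := dvd_pow h3 three_ne_zero
    rintro (h | h) <;> omega
  rw [mul_assoc, Nat.factorization_mul (by positivity) fun e => h1 (by rw [e]; exact dvd_zero 3), Finsupp.add_apply,
    Nat.factorization_eq_zero_of_not_dvd h1, ← pow_mul, Nat.Prime.factorization_pow Nat.prime_three,
    Finsupp.single_eq_same, add_zero]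

include hK in
theorem mem_comm (hm : 1 ≤ m) (u v : K) : U 0 u v ∈ ⁅uSub D, uSub D⁆ := by
  have : CharP K 3 := charP_of_card_eq_prime_pow hK
  have h3 : (3 : K) = 0 := CharP.cast_eq_zero K 3
  have h0 : (0 : K) ^ 3 ^ (m + 1) = 0 := zero_pow (by positivity)
  have hq : ∀ a : K, (a ^ 3 ^ (m + 1)) ^ 3 ^ (m + 1) = a ^ 3 := fun a => by
    rw [← pow_mul, ← pow_add, show m + 1 + (m + 1) = 2 * m + 1 + 1 by ring, pow_succ, pow_mul, ← hK, FiniteField.pow_card]
  have h1 : ∀ v, U 0 0 v ∈ ⁅uSub D, uSub D⁆ := fun v =>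
    mem_comm_of (U_mem D 0 (-v) 0) (U_mem D 1 0 0) (by simp only [D.U_mul, h0]; congr 1 <;> ring)
  have h2 : ∀ u v v', U 0 u v ∈ ⁅uSub D, uSub D⁆ → U 0 u v' ∈ ⁅uSub D, uSub D⁆ := fun u v v' h => by
    have := mul_mem h (h1 (v' - v))
    rw [D.U_mul, h0] at this
    convert this using 2 <;> ring
  have h4 : ∀ u u', U 0 u 0 ∈ ⁅uSub D, uSub D⁆ → U 0 u' 0 ∈ ⁅uSub D, uSub D⁆ → U 0 (u + u') 0 ∈ ⁅uSub D, uSub D⁆ :=
    fun u u' h h' => by
      have := mul_mem h h'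
      rw [D.U_mul, h0] at this
      convert this using 2 <;> ring
  have h5 : ∀ t t' : K, U 0 (t' * t ^ 3 ^ (m + 1) - t * t' ^ 3 ^ (m + 1)) 0 ∈ ⁅uSub D, uSub D⁆ := fun t t' =>
    h2 _ (-t ^ 2 * t' ^ 3 ^ (m + 1) + t * t' * t' ^ 3 ^ (m + 1) + t' ^ 2 * t ^ 3 ^ (m + 1) - t' * t * t ^ 3 ^ (m + 1) +
      (t' * t ^ 3 ^ (m + 1) - t * t' ^ 3 ^ (m + 1)) * (t' + t)) _
      (mem_comm_of (U_mem D t 0 0) (U_mem D t' 0 0) (by simp only [D.U_mul]; congr 1 <;> ring))
  obtain ⟨s, hs⟩ : ∃ s : K, s ^ 3 ^ (m + 1) - s ≠ 0 := by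
    by_contra! hs
    have h6 := (Nat.card_le_card_of_injective (fun s : K => (⟨s, by
      rw [← hq, sub_eq_zero.1 (hs _), sub_eq_zero.1 (hs _)]⟩ : {t : K // t ^ 3 = t}))
      fun _ _ e => congrArg Subtype.val e).trans (card_cube_le K)
    rw [Nat.card_eq_fintype_card, hK] at h6
    exact absurd ((Nat.pow_le_pow_right three_pos (show 2 ≤ 2 * m + 1 by omega)).trans h6) (by norm_num)
  have h6 : ∀ b : K, ∃ a : K, a * a ^ 3 ^ (m + 1) = b ^ 2 := fun b => by
    by_cases hb : b = 0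
    · exact ⟨0, by rw [hb]; ring⟩
    · have hb' : b ^ 3 ^ (m + 1) ≠ 0 := pow_ne_zero _ hb
      exact ⟨b ^ 3 ^ (m + 1) / b, by rw [div_pow, hq]; field_simp⟩
  refine h2 _ 0 _ ?_
  obtain ⟨a, ha⟩ := h6 (u / (s ^ 3 ^ (m + 1) - s) + 1)
  obtain ⟨b, hb⟩ := h6 (u / (s ^ 3 ^ (m + 1) - s) - 1)
  convert h4 _ _ (h5 (a * s) a) (h5 b (b * s)) using 2
  have h7 : u = u / (s ^ 3 ^ (m + 1) - s) * (s ^ 3 ^ (m + 1) - s) := (div_mul_cancel₀ _ hs).symm
  rw [mul_pow, mul_pow]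
  linear_combination h7 - (s ^ 3 ^ (m + 1) - s) * ha + (s ^ 3 ^ (m + 1) - s) * hb -
    u / (s ^ 3 ^ (m + 1) - s) * (s ^ 3 ^ (m + 1) - s) * h3

include D hK in
theorem nab_le [Finite G] (hm : 1 ≤ m) (P : Sylow 3 G) : nab P ≤ 3 ^ (2 * m + 1) := by
  obtain ⟨Q, hQ⟩ := exists_sylow D hK
  have h1 := nab_mul_le Q (fun x : K × K => U 0 x.1 x.2)
    (fun a b e => (Prod.ext_iff.1 (U_inj' D (a₁ := (0, a)) (a₂ := (0, b)) e)).2) fun x => hQ ▸ mem_comm D hK hm _ _
  rw [hQ, card_uSub, Nat.card_prod, Nat.card_eq_fintype_card, pow_succ', pow_two] at h1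
  rw [nab_eq P Q, ← hK]
  exact Nat.le_of_mul_le_mul_right h1 (by positivity)

include D in
/-- the extension of `²G₂(27)` by a field automorphism -/
theorem nab_le_nine (hK : Fintype.card K = 3 ^ (2 * m + 1)) (hm : m = 1) {A : Type} [Group A] [Finite A] (ι : G →* A)
    (hι : Function.Injective ι) (hi : ι.range.index = 3) (τ : K ≃+* K) (hτ : ∀ t, τ t = t → t ^ 3 = t) {g : A}
    (h3 : g ^ 3 = 1) (hg : ∀ t u v, g * ι (U t u v) * g⁻¹ = ι (U (τ t) (τ u) (τ v))) (P : Sylow 3 A) : nab P ≤ 9 := by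
  have := Finite.of_injective ι hι
  obtain ⟨Q, hQ⟩ := exists_sylow D hK
  have h0 : (0 : K) ^ 3 ^ (m + 1) = 0 := zero_pow (by positivity)
  have h1 : IsPGroup 3 ↥(zpowers g ⊔ (uSub D).map ι) := by
    refine IsPGroup.to_sup_of_normal_right' ?_ ((hQ ▸ Q.isPGroup').map ι) (zpowers_le.2 (mem_normalizer_fintype ?_))
    · rintro ⟨_, j, rfl⟩
      exact ⟨1, Subtype.ext (by simp only [pow_one, coe_pow, coe_one]; rw [← zpow_natCast, ← zpow_mul, mul_comm, zpow_mul,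
        zpow_natCast, h3, one_zpow])⟩
    · rintro _ ⟨_, ⟨t, u, v, rfl⟩, rfl⟩
      exact ⟨_, U_mem D _ _ _, (hg t u v).symm⟩
  obtain ⟨R, hR⟩ := h1.exists_le_sylow
  have h2 : (uSub D).map ι ≤ R := le_sup_right.trans hR
  let δ : K →+ K := (τ : K →+ K) - AddMonoidHom.id K
  have h4 := nab_mul_le R (fun x : δ.range × K × K => ι (U x.1 x.2.1 x.2.2))
    (fun a b e => by
      obtain ⟨e1, e2, e3⟩ := U_injective D (hι e)
      exact Prod.ext (Subtype.ext e1) (Prod.ext e2 e3)) (by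
      rintro ⟨⟨t, s, ht⟩, u, v⟩
      have ht' : t = τ s - s := ht.symm
      have e1 := mem_comm_of (hR (mem_sup_left (mem_zpowers g))) (h2 ⟨_, U_mem D s 0 0, rfl⟩)
        (c := ι (U t (t * s ^ 3 ^ (m + 1)) (t * s ^ 3 ^ (m + 1) * s + t ^ 2 * s ^ 3 ^ (m + 1) - t * s * s ^ 3 ^ (m + 1))))
        (by
          rw [← mul_assoc, ← map_mul, D.U_mul, ← mul_inv_eq_iff_eq_mul, hg, map_zero]
          congr 2 <;> simp only [ht'] <;> ring)
      have e2 := commutator_mono h2 h2 ((map_commutator _ _ ι).le ⟨_, mem_comm D hK hm.ge (u - t * s ^ 3 ^ (m + 1))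
        (v - (t * s ^ 3 ^ (m + 1) * s + t ^ 2 * s ^ 3 ^ (m + 1) - t * s * s ^ 3 ^ (m + 1))), rfl⟩)
      have e3 := mul_mem e1 e2
      rw [← map_mul, D.U_mul, h0] at e3
      convert e3 using 3 <;> ring)
  have h5 : Nat.card (R : Subgroup A) = 3 * Nat.card (Q : Subgroup G) := by
    rw [R.card_eq_multiplicity, Q.card_eq_multiplicity, ← ι.range.index_mul_card, hi,
      ← Nat.card_congr (MonoidHom.ofInjective hι).toEquiv, Nat.factorization_mul three_ne_zero Nat.card_pos.ne',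
      Finsupp.add_apply, Nat.prime_three.factorization_self, pow_add, pow_one]
  have h6 : Nat.card δ.ker ≤ 3 := (Nat.card_le_card_of_injective (fun t : δ.ker => (⟨t, hτ t (sub_eq_zero.1 t.2)⟩ :
    {t : K // t ^ 3 = t})) fun _ _ e => Subtype.ext (congrArg (fun z : {t : K // t ^ 3 = t} => (z : K)) e)).trans
      (card_cube_le K)
  have h7 := δ.ker.card_mul_index
  rw [AddSubgroup.index_ker, Nat.card_eq_fintype_card (α := K), hK, hm] at h7
  rw [h5, hQ, card_uSub, Nat.card_prod, Nat.card_prod, Nat.card_eq_fintype_card (α := K), hK, hm] at h4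
  rw [nab_eq P R]
  have h8 : 9 ≤ Nat.card δ.range := by
    have := h7.ge.trans (Nat.mul_le_mul_right (Nat.card δ.range) h6)
    omega
  have := (Nat.mul_le_mul_left _ (Nat.mul_le_mul_right _ h8)).trans h4
  norm_num at this
  omega

end Cfsg.Agent.KZ.Ch3X
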