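import Cfsg.Agent.KZ.Ch3X.Fam
import Cfsg.Agent.KZ.Ch3X.ReeU
import Cfsg.Agent.KZ.DatX.Weyl
import Cfsg.Agent.S2127

/-!
# KZ, the small Ree groups (helper3)

`row_ree`.
-/

set_option autoImplicit false
set_option linter.unusedSectionVars false
set_option maxHeartbeats 400000

namespace Cfsg.Agent.KZ.Ch3X

open Cfsg Cfsg.Lie Cfsg.Agent.KZ.Tool Cfsg.Agent.KZ.Red Cfsg.Agent.KZ.Res Cfsg.Agent.DL Cfsg.Agent.DL.PP Cfsg.Agent.DL.Ex
  Cfsg.Agent.DL.Uni Cfsg.Agent.Nodes.Reps Cfsg.Agent.KZ.DatX Cfsg.Agent.Nodes.RGDChev Cfsg.Agent.KFacts.RgdChevCoord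
  Cfsg.Agent.ChevalleyStructure.Ree Matrix

theorem has_ree {K : Type} [Field K] [Fintype K] {m : ℕ} (hm : 1 ≤ m) (hK : Fintype.card K = 3 ^ (2 * m + 1)) :
    ∃ (k : Type) (_ : Field k) (_ : CharP k 3) (_ : IsAlgClosed k) (X : XF hpG2 3 k ((3 : ℤ) ^ m • GamG))
      (_ : XF hpG2 3 k ((3 : ℤ) ^ 0 • GamG)) (α : MulAut ↥(chevG2.group k)), Au X.D α ((3 : ℤ) ^ 0 • GamG) ∧
        Nonempty (XS X (AdmF 3) 1 ↥(twistedG2 K (3 ^ m))) := by
  obtain ⟨_, _, hk⟩ := Tw.setup' Nat.prime_three (Nat.succ_ne_zero _) hK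
  have E := Tw.emb_G2 (algebraMap K (AlgebraicClosure K)) hK
  have O : Over (Tw.reeA (AlgebraicClosure K) m) ⊤ (TT chevG2 _) (Tw.embG2 (algebraMap K _) m) 1 := by
    refine over_of_range E.inj (le_antisymm ?_ fun y hy => pow_one y ▸ E.pow y hy) (BpExc.TorChev.TT_comm hpG2) le_top
    rintro _ ⟨s, rfl⟩
    exact E.mem s
  refine ⟨AlgebraicClosure K, _, _, _, _, xfG hk ((Tw.spc_G2 _ 0).amb (Tw.spcD_G2 0) hk (Nat.succ_pos _)) (gdG _ 0)
    (pm_add 3 _ 0 _), Tw.reeA _ 0, ?_, ⟨xsT hk ((Tw.spc_G2 _ m).amb (Tw.spcD_G2 m) hk (Nat.succ_pos _)) (gdG _ m)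
    (pm_add 3 _ m _) O (Nat.coprime_one_left _) (fun _ => idx_of_one O rfl) fun σ => ?_⟩⟩
  · refine (pm_add 3 (Equiv.swap 0 1) 0 ![1, 0]) ▸ (gdG _ 0).au _ fun y => ?_
    exact DFunLike.congr_fun (Commute.pow_pow_self (H72.G2G.exists_spec (AlgebraicClosure K)).choose (2 * 0 + 1)
      (2 * m + 1)).eq y
  · obtain ⟨g, τ, rfl⟩ := H71.FldAut.ree_aut hm hK σ
    obtain ⟨j, hj⟩ := exists_frob 3 τ
    refine ⟨_, (O.mem g).2, j, fun s => (conj_hom _ g _ s).trans ?_⟩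
    congr 2
    exact frob_eq (hp := hpG2) _ hj rfl rfl

theorem det_ree (m : ℕ) : ((3 : ℤ) ^ m • GamG).det.natAbs = 3 ^ (2 * m + 1) := by
  rw [det_smul, GamG_eq, det_fin_two_of, Fintype.card_fin, Int.natAbs_mul, ← pow_mul, Int.natAbs_pow, mul_comm m, pow_succ]
  rfl

/-- the matrices of the Weyl group -/
def L12 : List (Matrix (Fin 2) (Fin 2) ℤ) :=
  [!![-2, -1; 3, 1], !![-2, -1; 3, 2], !![-1, -1; 0, 1], !![-1, -1; 3, 2], !![-1, 0; 0, -1], !![-1, 0; 3, 1],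
    !![1, 0; -3, -1], !![1, 0; 0, 1], !![1, 1; -3, -2], !![1, 1; 0, -1], !![2, 1; -3, -2], !![2, 1; -3, -1]]

theorem L12_mul : (1 ∈ L12) ∧ ∀ i, ∀ B ∈ L12, sM chevG2 2 i * B ∈ L12 := by decide +kernel

theorem L12_sum : ∑ B ∈ L12.toFinset, (B * ((3 : ℤ) ^ 0 • GamG) - 1).det.natAbs = 36 := by
  simp only [det_fin_two]
  decide +kernel

/-- the orders of three labels -/
def nG : Fin 3 → ℕ := ![1, 2, 7]

/-- the exponents of three labels -/
def xG : Fin 3 → Fin 2 → ℤ := ![![1, 1], ![1, 1], ![1, 2]]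

theorem okG : (∀ i j, nG i = nG j → i = j) ∧ ∀ i, nG i ≠ 0 ∧ nG i < 26 ∧ (∃ j, xG i j = 1) ∧
    (∀ j, (nG i : ℤ) ∣ wd chevG2 2 (![[], [], [0, 1]] i) ((3 : ℤ) • xG i) j - xG i j) ∧
    ∀ j, (nG i : ℤ) ∣ wd chevG2 2 (![[], [], [0, 1, 0, 1, 0]] i) (xG i ᵥ* GamG) j - xG i j := by decide +kernel

section

variable {k : Type} [Field k] [CharP k 3] [IsAlgClosed k] {Mx Mx' : Matrix (Fin 2) (Fin 2) ℤ} (X : XF hpG2 3 k Mx)

theorem mem_L12 (w : X.D.W) : X.D.Wm w ∈ L12 := by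
  obtain ⟨L, -, h⟩ := X.exists_word w
  rw [h]
  clear h
  induction L with
  | nil => exact L12_mul.1
  | cons i L ih => exact L12_mul.2 i _ ih

theorem card_cls_le (X : XF hpG2 3 k ((3 : ℤ) ^ 0 • GamG)) : Nat.card (Quotient (clsSetoid X.D)) ≤ 3 := by
  have := Fintype.ofFinite X.D.W
  have h1 := card_cls X.D
  have h2 : ∑ w, (X.D.Wm w * X.D.Mx - 1).det.natAbs ≤ 36 := by
    rw [← L12_sum]
    refine le_trans (le_of_eq ?_) (Finset.sum_le_sum_of_subset (s := Finset.univ.map ⟨X.D.Wm, X.Wm_inj⟩) fun B hB => ?_)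
    · exact (Finset.sum_map Finset.univ ⟨X.D.Wm, X.Wm_inj⟩ fun B => (B * X.D.Mx - 1).det.natAbs).symm
    · obtain ⟨w, -, rfl⟩ := Finset.mem_map.1 hB
      exact List.mem_toFinset.2 (mem_L12 X w)
  rw [← Nat.card_eq_fintype_card, show Nat.card X.D.W = 12 from card_W_G2] at h1
  omega

theorem cj_of (X' : XF hpG2 3 k Mx') {c c' : Fin 2 → ℂˣ} (h : Cj X.D c c') : Cj X'.D c c' := by
  obtain ⟨u, h⟩ := h
  obtain ⟨L, rfl, h1⟩ := X.exists_word u
  refine ⟨CoxeterMatrix.G₂.toCoxeterSystem.wordProd L, rel_iff.2 ?_⟩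
  rw [X'.Wm_word, ← h1]
  exact rel_iff.1 h

theorem cj_eq {c c' : Fin 2 → ℂˣ} (e : c' = c) : Cj X.D c c' := e ▸ Cj.refl (D := X.D) _

theorem cj_smul {c : Fin 2 → ℂˣ} {n : ℕ} {A B : Matrix (Fin 2) (Fin 2) ℤ} (h : Cj X.D c (c ^ n : Fin 2 → ℂˣ))
    (h' : Cj X.D c (mon Bᵀ c)) (j : ℕ) (e : A = (n : ℤ) ^ j • B) : Cj X.D c (mon Aᵀ c) := e ▸ Cj.smul (D := X.D) h h' j

theorem cjG3 (i : Fin 3) : Cj X.D (lab (nG i) (xG i)) (lab (nG i) (xG i) ^ 3 : Fin 2 → ℂˣ) :=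
  (lab_pow (n := nG i) (x := xG i) 3).symm ▸ cj_word X (okG.2 i).1 _ (okG.2 i).2.2.2.1

theorem cjG (i : Fin 3) : Cj X.D (lab (nG i) (xG i)) (mon GamGᵀ (lab (nG i) (xG i))) :=
  (mon_lab (n := nG i) (x := xG i) GamG).symm ▸ cj_word X (okG.2 i).1 _ (okG.2 i).2.2.2.2

theorem ordG (i : Fin 3) : orderOf (lab (nG i) (xG i)) = nG i := orderOf_lab (okG.2 i).1 (okG.2 i).2.2.1

end

variable {M : Ideal AlgInt} (hM : IsPModular 3 M) {S : Type} [Group S] [Finite S] [IsSimpleGroup S]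
  (hab : ¬ IsMulCommutative S) {K : Type} [Field K] [Fintype K] {m : ℕ} (hm : 1 ≤ m)
  (hK : Fintype.card K = 3 ^ (2 * m + 1)) (i : S ≃* ↥(twistedG2 K (3 ^ m)))

include hm hK i in
theorem lie_ree : IsLieTypeChar 3 S :=
  .inr (.inr (.inr (.inr (.inr (.inr (.inr (.inr (.inr (.inr ⟨rfl, K, inferInstance, inferInstance, m, hm, hK, ⟨i⟩⟩)))))))))

include hm hK i in
theorem out_ree : Nat.card (Out S) = 2 * m + 1 := (card_out_congr i).trans (S2127.result hm hK)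

section

variable {k : Type} [Field k] [CharP k 3] [IsAlgClosed k] {X : XF hpG2 3 k ((3 : ℤ) ^ m • GamG)}
  (s : XS X (AdmF 3) 1 S)

include hm hK i s

theorem hn_ree : HN X.D := by
  obtain ⟨θ, c⟩ := Normal.exists_ctx hK
  have := Finite.of_equiv _ i.toEquiv
  obtain ⟨P⟩ : Nonempty (Sylow 3 S) := inferInstance
  obtain ⟨Q⟩ : Nonempty (Sylow 3 ↥(twistedG2 K (3 ^ m))) := inferInstance
  refine (em s).hn X.D_qs P ?_
  rw [prod_ex, det_ree, nab_equiv i P Q]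
  exact nab_le (Data.data c) hK hm Q

include hM hab

theorem inv_ree (Y : Subgroup (MulAut S)) (hY : IsPGroup 3 ↥Y) : InvA M Y := by
  have := X.finite
  have := Fintype.ofFinite ↥(GF X.F ⊤)
  obtain ⟨θ, h1, h2, h3⟩ := Em.fam (E := em s) X.D_qs (cz X) (hn_ree hm hK i s) ((index_one s).le.trans one_le_two)
    (fun j => lab (nG j) (xG j)) (fun a b e => okG.1 a b ((ordG a).symm.trans (e.trans (ordG b))))
    (fun j => Cj.smul (D := X.D) (cjG3 X j) (cjG X j) m) one_ne_zero (by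
      rintro _ ⟨j, rfl⟩ a
      exact cj_smul X (cjG3 X a) (Cj.one (D := X.D) _) j (pow_one _)) 2 (by rw [index_one]; decide)
  exact invA_of_three θ (fun j => mem_of_lie hM hab (lie_ree hm hK i) (h1 j)) h2
    fun σ hσ j => fixes_of_three hY (by decide) hσ (h3 σ j)

theorem cnt_ree : 3 ^ (2 * m + 1) ≤ k0 M S := by
  have := X.finite
  have := Fintype.ofFinite ↥(GF X.F ⊤)
  have h := (cls_ge X).trans ((em s).cnt (cz X))
  rwa [index_one, one_mul, det_ree, ← k0_of_lie hM hab (lie_ree hm hK i)] at h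

theorem p4_ree (h2 : m ≠ 1) : P4 M S := by
  intro σ t h3 hσ
  have := X.finite
  have := Fintype.ofFinite ↥(GF X.F ⊤)
  have hO := out_ree hm hK i
  obtain ⟨β, hβ⟩ := (cyc_of_cycOut (H523.cycOut_ree ⟨K, inferInstance, inferInstance, m, hm, hK, ⟨i⟩⟩)).exists_monoid_generator
  have hb : orderOf β = 2 * m + 1 := (orderOf_eq_card_of_forall_mem_powers hβ).trans hO
  obtain ⟨a, ha⟩ := hβ (σ : Out S)
  have h4 : (σ : Out S) ^ 3 = 1 := by
    rw [← QuotientGroup.mk_pow, h3]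
    exact (QuotientGroup.eq_one_iff (N := Inn S) _).2 ⟨t, rfl⟩
  have h5 : 3 ∣ 2 * m + 1 := by
    rw [← hO, ← orderOf_eq_prime h4 fun e => ((QuotientGroup.eq_one_iff (N := Inn S) _).1 e).elim fun u hu => hσ u hu.symm]
    exact orderOf_dvd_natCard _
  obtain ⟨r, rfl⟩ : ∃ r, m = 3 * (r + 1) + 1 := ⟨(m - 1) / 3 - 1, by omega⟩
  obtain ⟨b, rfl⟩ : 2 * (r + 1) + 1 ∣ a := by
    rw [← ha, ← pow_mul, ← orderOf_dvd_iff_pow_eq_one, hb, show 2 * (3 * (r + 1) + 1) + 1 = (2 * (r + 1) + 1) * 3 by ring] at h4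
    exact Nat.dvd_of_mul_dvd_mul_right three_pos h4
  have h6 : 27 ≤ 3 ^ (2 * (r + 1) + 1) := Nat.pow_le_pow_right three_pos (show 3 ≤ _ by omega)
  have h7 : 3 ^ (2 * (r + 1) + 1) - 1 ≠ 0 := by omega
  let c : Option (Fin 3) → Fin 2 → ℂˣ := fun j =>
    j.elim (lab (3 ^ (2 * (r + 1) + 1) - 1) ![1, 3 ^ (r + 1)]) fun j => lab (nG j) (xG j)
  have h8 : orderOf (c none) = 3 ^ (2 * (r + 1) + 1) - 1 := orderOf_lab h7 ⟨0, rfl⟩
  have h9 : ∀ j, Cj X.D (c j) (c j ^ 3 ^ (2 * (r + 1) + 1) : Fin 2 → ℂˣ) := by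
    rintro (_ | j)
    · refine cj_eq X ?_
      rw [← Nat.sub_add_cancel (show 1 ≤ 3 ^ (2 * (r + 1) + 1) by omega), pow_succ (c none), ← h8, pow_orderOf_eq_one,
        one_mul]
    · exact (cjG3 X j).pow_pow _
  have h10 : ∀ j, Cj X.D (c j) (mon ((3 : ℤ) ^ (r + 1) • GamG)ᵀ (c j)) := by
    rintro (_ | j)
    · refine cj_eq X ((mon_lab _).trans (lab_congr h7 fun j => ?_))
      rw [Nat.cast_sub (by omega), GamG_eq]
      fin_cases j
      · exact ⟨1, by simp [vecMul, dotProduct]; ring⟩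
      · simp [vecMul, dotProduct]
    · exact Cj.smul (D := X.D) (cjG3 X j) (cjG X j) _
  obtain ⟨θ, h11, h12, h13⟩ := Em.fam (E := em s) X.D_qs (cz X) (hn_ree hm hK i s) ((index_one s).le.trans one_le_two) c
    (by
      rintro (_ | a) (_ | b) e
      · rfl
      · have := (okG.2 b).2.1
        have e' := h8.symm.trans (e.trans (ordG b))
        omega
      · have := (okG.2 a).2.1
        have e' := (ordG a).symm.trans (e.trans h8)
        omega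
      · exact congrArg some (okG.1 a b ((ordG a).symm.trans (e.trans (ordG b)))))
    (fun j => cj_smul X (h9 j) (h10 j) 1 (A := (3 : ℤ) ^ (3 * (r + 1) + 1) • GamG) (by
      rw [pow_one, smul_smul, Nat.cast_pow, Nat.cast_ofNat, ← pow_add,
        show 2 * (r + 1) + 1 + (r + 1) = 3 * (r + 1) + 1 by ring]))
    (n := 2 * (r + 1) + 1) (by omega) (by
      rintro _ ⟨j, rfl⟩ a
      exact cj_smul X (h9 a) (Cj.one (D := X.D) _) j (A := (((3 : ℕ) : ℤ) ^ j • 1) ^ (2 * (r + 1) + 1)) (by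
        rw [smul_pow, one_pow, ← pow_mul, mul_comm, pow_mul, ← Nat.cast_pow]
        rfl)) 3 (by rw [index_one]; decide)
  obtain ⟨β, rfl⟩ := QuotientGroup.mk_surjective β
  have h14 : ∀ j, Fixes σ (θ j) := fun j => by
    refine fixes_of_coprime (a := 2) (b := 3) (by decide) ?_ (h3 ▸ fixes_conj t _)
    obtain ⟨u, hu⟩ : ((β ^ b) ^ (2 * (2 * (r + 1) + 1)))⁻¹ * σ ^ 2 ∈ Inn S := by
      rw [← QuotientGroup.eq, QuotientGroup.mk_pow, QuotientGroup.mk_pow, QuotientGroup.mk_pow, ← ha, ← pow_mul, ← pow_mul]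
      congr 1
      ring
    rw [← mul_inv_cancel_left ((β ^ b) ^ (2 * (2 * (r + 1) + 1))) (σ ^ 2), ← hu]
    exact fixes_mul (h13 _ j) (fixes_conj u _)
  classical
  refine ⟨Finset.univ.image θ, by rw [Finset.card_image_of_injective _ (inj_of_apart h12)]; simp, fun ψ hψ => ?_⟩
  obtain ⟨j, -, rfl⟩ := Finset.mem_image.1 hψ
  exact ⟨mem_of_lie hM hab (lie_ree hm hK i) (h11 j), h14 j⟩

omit hab in
theorem fix_le (X0 : XF hpG2 3 k ((3 : ℤ) ^ 0 • GamG)) {α : MulAut ↥(chevG2.group k)}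
    (hα : Au X.D α ((3 : ℤ) ^ 0 • GamG)) :
    ∃ σ : MulAut S, Nat.card {θ : IrrCharacter S // Mem M θ ∧ Fixes σ θ} ≤ 3 := by
  have := X.finite
  have := Fintype.ofFinite ↥(GF X.F ⊤)
  have := finite_cls (D := X0.D)
  obtain ⟨f⟩ := Lie.nonempty_fr X.D
  have hN := hn_ree hm hK i s
  let e := MulEquiv.ofBijective (em s).j ⟨(em s).inj, MonoidHom.range_eq_top.1 (Subgroup.index_eq_one.1 (index_one s))⟩
  refine ⟨MulAut.congr e.symm hα.aut, le_trans ?_ (card_cls_le X0)⟩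
  choose c hc using fun θ : {θ : IrrCharacter S // Mem M θ ∧ Fixes (MulAut.congr e.symm hα.aut) θ} =>
    (em s).exists_lab f X.D_qs (cz X) hN hM θ.2.1
  have h1 : ∀ θ, ∃ w, Fx X0.D w (c θ) := fun θ => by
    have h2 := (hc θ).lift (σ := MulAut.congr e.symm hα.aut) (g := 1) hα fun a => by
      rw [one_mul, inv_one, mul_one]
      exact e.apply_symm_apply _
    rw [show tr (MulAut.congr e.symm hα.aut) θ.1 = θ.1 from Subtype.ext (funext θ.2.2)] at h2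
    exact Cj.exists_fx (D := X0.D) (cj_of X X0 ((hc θ).cj (index_one s) h2))
  refine Nat.card_le_card_of_injective (fun θ => Quotient.mk _ ⟨c θ, h1 θ⟩) fun θ θ' h => Subtype.ext ?_
  exact Em.L.eq X.D_qs (cz X) hN (index_one s) ((hc θ).of_cj (cj_of X0 X (Quotient.exact h))) (hc θ')

omit hM hab in
theorem big_ree : Big (3 ^ (2 * m + 1)) S := ((em s).big X.D_qs).mono ((det_ree m).ge.trans (prod_ex X).ge)

end

theorem num_ree {m : ℕ} (hm : 1 ≤ m) : 8 * (2 * m + 1) + 1 < 3 ^ (2 * m + 1) := by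
  induction m, hm using Nat.le_induction with
  | base => decide
  | succ m _ ih =>
    rw [show 2 * (m + 1) + 1 = 2 * m + 1 + 2 by ring, pow_add]
    omega

include hM hab hm hK i in
theorem std_ree (h2 : m ≠ 1) : Std M S := by
  obtain ⟨k, _, _, _, X, -, -, -, ⟨s⟩⟩ := has_ree hm hK
  exact ⟨oc3_of_cyclic (cyc_of_cycOut (H523.cycOut_ree ⟨K, inferInstance, inferInstance, m, hm, hK, ⟨i⟩⟩)),
    .inl ((big_ree hm hK i (s.congr i)).mono (Nat.pow_le_pow_right three_pos (show 4 ≤ _ by omega))),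
    out_ree hm hK i ▸ (num_ree hm).trans_le (cnt_ree hM hab hm hK i (s.congr i)), p4_ree hM hab hm hK i (s.congr i) h2,
    inv_ree hM hab hm hK i (s.congr i)⟩

/-- the extension of `²G₂(27)` of degree three -/
theorem nab_27 {A : Type} [Group A] [Finite A] {N : Subgroup A} [N.Normal] (hc : Subgroup.centralizer (N : Set A) = ⊥)
    (h3 : N.index = 3) (hK : Fintype.card K = 3 ^ (2 * 1 + 1)) (i : ↥N ≃* ↥(twistedG2 K (3 ^ 1))) (P : Sylow 3 A) :
    nab P ≤ 9 := by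
  obtain ⟨_, _, -⟩ := Tw.setup' Nat.prime_three (Nat.succ_ne_zero _) hK
  obtain ⟨θ, c⟩ := Normal.exists_ctx hK
  obtain ⟨x, hx⟩ : ∃ g : A, g ∉ N := by
    by_contra h1
    rw [(Subgroup.eq_top_iff' N).2 (by simpa using h1), Subgroup.index_top] at h3
    omega
  obtain ⟨g, τ, h⟩ := H71.FldAut.ree_aut le_rfl hK (MulAut.congr i (MulAut.conjNormal x))
  obtain ⟨j, hj⟩ := exists_frob 3 τ
  have h27 : ∀ (n : ℕ) (a : K), a ^ 27 ^ n = a := fun n a => by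
    have := FiniteField.pow_card_pow n a
    rwa [hK] at this
  let ι : ↥(twistedG2 K (3 ^ 1)) →* A := N.subtype.comp i.symm.toMonoidHom
  have h1 : ∀ y, (ι g)⁻¹ * x * ι y * ((ι g)⁻¹ * x)⁻¹ = ι (S2127.fld τ (3 ^ 1) y) := fun y => by
    have h2 : x * ι y * x⁻¹ = ι (g * S2127.fld τ (3 ^ 1) y * g⁻¹) :=
      congrArg Subtype.val (i.eq_symm_apply.2 (DFunLike.congr_fun h y))
    rw [show (ι g)⁻¹ * x * ι y * ((ι g)⁻¹ * x)⁻¹ = (ι g)⁻¹ * (x * ι y * x⁻¹) * ι g by group, h2, map_mul, map_mul, map_inv]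
    group
  have h4 : ∀ z : A, (∀ y, z * ι y * z⁻¹ = ι y) → z = 1 := fun z hz => Subgroup.mem_bot.1 (hc ▸ fun n hn => by
    have := hz (i ⟨n, hn⟩)
    rw [show ι (i ⟨n, hn⟩) = n from congrArg Subtype.val (i.symm_apply_apply _)] at this
    exact (mul_inv_eq_iff_eq_mul.1 this).symm)
  refine nab_le_nine (Data.data c) hK rfl ι (N.subtype_injective.comp i.symm.injective) ?_ τ (fun t ht => ?_)
    (g := (ι g)⁻¹ * x) (h4 _ fun y => ?_) (fun t u v => (h1 _).trans (congrArg ι (Subtype.ext (S2127.glE_wU τ _ _ _ _)))) P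
  · rw [MonoidHom.range_comp, MonoidHom.range_eq_top.2 i.symm.surjective, ← MonoidHom.range_eq_map,
      Subgroup.range_subtype, h3]
  · have h5 : ∀ a, τ a = a ^ 3 ^ (j % 3) := fun a => by
      rw [hj, ← Nat.div_add_mod j 3, pow_add, pow_mul, pow_mul, show 3 ^ 3 = 27 from rfl, h27, Nat.mul_add_mod, Nat.mod_mod]
    rw [h5] at ht
    have h6 : j % 3 ≠ 0 := fun h6 => hx (by
      have h7 := h4 ((ι g)⁻¹ * x) fun y => (h1 y).trans (congrArg ι (Subtype.ext (Units.ext (Matrix.ext fun a b => by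
        refine (h5 _).trans ?_
        rw [h6, pow_zero, pow_one]))))
      rw [← inv_mul_eq_one.1 h7]
      exact (i.symm g).2)
    obtain h7 | h7 : j % 3 = 1 ∨ j % 3 = 2 := by omega
    · rwa [h7] at ht
    · rw [h7] at ht
      conv_lhs => rw [← ht, ← pow_mul]
      exact h27 1 t
  · have e : ∀ z w : A, z ^ 3 * w * (z ^ 3)⁻¹ = z * (z * (z * w * z⁻¹) * z⁻¹) * z⁻¹ := fun z w => by
      rw [pow_three]
      group
    rw [e, h1, h1, h1]
    refine congrArg ι (Subtype.ext (Units.ext (Matrix.ext fun a b => ?_)))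
    refine (hj _).trans ((congrArg (· ^ 3 ^ j) ((hj _).trans (congrArg (· ^ 3 ^ j) (hj _)))).trans ?_)
    rw [← pow_mul, ← pow_mul, ← mul_pow, ← mul_pow]
    exact h27 j _

/-- `²G₂(27)` -/
theorem row_27 : Row fun S _ => ∃ (K : Type) (_ : Field K) (_ : Fintype K), Fintype.card K = 3 ^ (2 * 1 + 1) ∧
    Nonempty (S ≃* ↥(twistedG2 K (3 ^ 1))) where
  up M hM A _ _ N hA := by
    rintro ⟨K, _, _, hK, ⟨i⟩⟩ P hP
    have := hA.normal
    have := hA.simple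
    obtain ⟨k, _, _, _, X, X0, α, hα, ⟨s⟩⟩ := has_ree le_rfl hK
    have hO := out_ree le_rfl hK i
    rcases (Nat.dvd_prime Nat.prime_three).1 (hO ▸ index_dvd_out hA.cent :) with h | h
    · exact absurd (nab_ge' (by omega) (big_ree le_rfl hK i (s.congr i)) P) (by omega)
    · obtain ⟨σ, hσ⟩ := fix_le hM le_rfl hK i (s.congr i) X0 hα
      have h1 : (outHom N).range = ⊤ := Subgroup.eq_top_of_card_eq _ (by
        rw [← Subgroup.index_ker, outHom_ker hA.cent, h, hO])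
      obtain ⟨g, hg⟩ := MonoidHom.range_eq_top.1 h1 (σ : Out ↥N)
      obtain ⟨t, ht⟩ := QuotientGroup.eq.1 hg
      have := Characters.Core.finite_irr (G := ↥N)
      have h2 : fx M N ≤ 3 := (Nat.card_le_card_of_injective (fun θ : {θ : IrrCharacter ↥N // Mem M θ ∧ InvU N ⊤ θ} =>
        (⟨θ.1, θ.2.1, by
          rw [← mul_inv_cancel_left (MulAut.conjNormal g) σ, ← ht]
          exact fixes_mul (θ.2.2 g trivial) (fixes_conj t _)⟩ : {θ : IrrCharacter ↥N // Mem M θ ∧ Fixes σ θ}))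
        fun _ _ e => Subtype.ext (congrArg (fun z : {θ : IrrCharacter ↥N // Mem M θ ∧ Fixes σ θ} => z.1) e)).trans hσ
      rw [res3 hM h]
      omega
  lo M hM A _ _ N hA := by
    rintro ⟨K, _, _, hK, ⟨i⟩⟩ hi P hP
    have := hA.normal
    have := hA.simple
    rcases hi with hi | hi
    · obtain ⟨k, _, _, _, X, -, -, -, ⟨s⟩⟩ := has_ree le_rfl hK
      have h1 := Nat.le_of_dvd Nat.card_pos (index_dvd_out hA.cent)
      have h2 := cnt_ree hM hA.nonab le_rfl hK i (s.congr i)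
      rw [out_ree le_rfl hK i] at h1
      exact ten_le_of_count hM hi (by omega)
    · exact absurd (nab_27 hA.cent hi hK i P) (by omega)
  two M hM S _ _ _ hab _ := by
    rintro ⟨K, _, _, hK, ⟨i⟩⟩
    obtain ⟨k, _, _, _, X, -, -, -, ⟨s⟩⟩ := has_ree le_rfl hK
    exact (inv_ree hM hab le_rfl hK i (s.congr i) ⊥ IsPGroup.of_bot).two
  inv M hM S _ _ _ hab _ := by
    rintro ⟨K, _, _, hK, ⟨i⟩⟩ Y hY
    obtain ⟨k, _, _, _, X, -, -, -, ⟨s⟩⟩ := has_ree le_rfl hK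
    exact .inl (inv_ree hM hab le_rfl hK i (s.congr i) Y hY)

/-- **the small Ree groups** -/
theorem row_ree : Row fun S _ => Lie.IsoRee S := by
  refine (row_27.or (row_of (K := fun S _ => ∃ (K : Type) (_ : Field K) (_ : Fintype K) (m : ℕ), 1 ≤ m ∧ m ≠ 1 ∧
    Fintype.card K = 3 ^ (2 * m + 1) ∧ Nonempty (S ≃* ↥(twistedG2 K (3 ^ m)))) ?_)).mono ?_
  · rintro M hM S _ _ _ hab - ⟨K, _, _, m, hm, h2, hK, ⟨i⟩⟩
    exact std_ree hM hab hm hK i h2
  · rintro S _ ⟨K, _, _, m, hm, hK, hi⟩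
    by_cases h2 : m = 1
    · subst h2
      exact .inl ⟨K, _, _, hK, hi⟩
    · exact .inr ⟨K, _, _, m, hm, h2, hK, hi⟩

end Cfsg.Agent.KZ.Ch3X
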